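import Cfsg.Agent.Lib.RankThreeEss69.Final

/-!
Essential subgroups which are normal in `S`, as subgroups of `S`.
-/

set_option autoImplicit false
set_option linter.unusedSectionVars false

namespace Cfsg.Agent.Lib.RankThreePearl69

open Cfsg Cfsg.FusionSystem Cfsg.Agent.Lib.Fusion Cfsg.Agent.Lib.Fusion87 Cfsg.Agent.Lib.FusionOrderFive
  Cfsg.Agent.Lib.RankThreeEss69
open scoped commutatorElement

universe u

variable {Ω : Type u} [Group Ω] {S : Subgroup Ω} [Finite S] {F : FusionSystem S} {p : ℕ}
  [hp : Fact p.Prime]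

omit hp in
theorem normal_sub {E : Subgroup Ω} (hN : normalizerIn S E = S) : (E.subgroupOf S).Normal :=
  Subgroup.normal_subgroupOf_of_le_normalizer (hN.ge.trans inf_le_right)

omit hp in
theorem conj_mem_normalizer {E : Subgroup Ω} (hN : normalizerIn S E = S) (g : S) :
    (g : Ω) ∈ Subgroup.normalizer (E : Set Ω) := (hN.ge g.2).2

theorem idx_sub (hS : IsPGroup p S) (hF : F.IsSaturated p) {E : Subgroup Ω} (hE : F.IsEssential p E)
    (hp2 : p ≠ 2) (hrk : (frattini E).index = p ^ 3) (hN : normalizerIn S E = S) :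
    Idx p (E.subgroupOf S) := by
  have h := idx_bar hS hF hE hp2 hrk
  rwa [hN] at h

theorem fr_eq_map {E : Subgroup Ω} (hES : E ≤ S) :
    fr p (E.subgroupOf S) = (fr p (⊤ : Subgroup E)).map (Subgroup.inclusion hES) := by
  rw [map_fr, ← MonoidHom.range_eq_map, Subgroup.inclusion_range]

/-- The Frattini part of an essential subgroup is kept by its automorphisms. -/
theorem fr_inv {E : Subgroup Ω} (hES : E ≤ S) (α : MulAut E) (x : E)
    (hx : Subgroup.inclusion hES x ∈ fr p (E.subgroupOf S)) :
    Subgroup.inclusion hES (α x) ∈ fr p (E.subgroupOf S) := by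
  rw [fr_eq_map hES, Subgroup.mem_map_iff_mem (Subgroup.inclusion_injective _)] at hx ⊢
  have := Subgroup.mem_map_of_mem α.toMonoidHom hx
  rwa [map_fr, Subgroup.map_top_of_surjective _ α.surjective] at this

theorem mem_fr_sub (hS : IsPGroup p S) {E : Subgroup Ω} (hES : E ≤ S) (x : E) :
    Subgroup.inclusion hES x ∈ fr p (E.subgroupOf S) ↔ x ∈ frattini E := by
  haveI := finite_of_le hES
  rw [fr_eq_map hES, Subgroup.mem_map_iff_mem (Subgroup.inclusion_injective _),
    fr_top_eq_frattini (hS.to_le hES)]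

/-- The image of an essential subgroup under an automorphism of `S` is essential. -/
theorem isEssential_image {E : Subgroup Ω} (hE : F.IsEssential p E) (hN : normalizerIn S E = S)
    {γ : MulAut S} (hγ : γ ∈ F.autGroup S) :
    F.IsEssential p (((E.subgroupOf S).map γ.toMonoidHom).map S.subtype) := by
  set E1 := ((E.subgroupOf S).map γ.toMonoidHom).map S.subtype
  have hES := hE.1.1
  set φ := (autHom γ).comp (Subgroup.inclusion hES)
  have hφ : φ ∈ F.Hom E := restrict_mem (autGroup_hom_mem le_rfl hγ) hES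
  have hr : φ.range = E1 := by
    rw [MonoidHom.range_comp, Subgroup.inclusion_range, autHom, ← Subgroup.map_map]
  have hn1 : normalizerIn S E1 = S := by
    refine le_antisymm inf_le_left (le_inf le_rfl fun g hg => ?_)
    haveI := (normal_sub hN).map γ.toMonoidHom γ.surjective
    rw [Subgroup.mem_normalizer_iff]
    have key : ∀ g : S, ∀ y ∈ E1, (g : Ω) * y * (g : Ω)⁻¹ ∈ E1 := by
      rintro g _ ⟨y, hy, rfl⟩
      exact ⟨g * y * g⁻¹, Subgroup.Normal.conj_mem inferInstance y hy g, rfl⟩
    refine fun y => ⟨key ⟨g, hg⟩ y, fun hy => ?_⟩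
    have h := key ⟨g⁻¹, S.inv_mem hg⟩ _ hy
    simpa [mul_assoc] using h
  refine isEssential_of_map hE hφ hr ⟨Subgroup.map_subtype_le _, fun Q _ => ?_⟩
  rw [hn1]
  exact Subgroup.card_le_of_le inf_le_left

/-- A non-trivial subgroup kept by all automorphisms contradicts a trivial core. -/
theorem false_of_invariant_core (hS : IsPGroup p S) (hF : F.IsSaturated p) (hO : F.core = ⊥)
    {K : Subgroup S} (hK : K ≠ ⊥) (hSi : ∀ γ ∈ F.autGroup S, ∀ x ∈ K, γ x ∈ K)
    (hEi : ∀ E, F.IsEssential p E → K ≤ E.subgroupOf S ∧ ∀ (hES : E ≤ S), ∀ α ∈ F.autGroup E,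
      ∀ x : E, Subgroup.inclusion hES x ∈ K → Subgroup.inclusion hES (α x) ∈ K) : False := by
  have hn : F.IsNormal (K.map S.subtype) := by
    refine isNormal_of_aut hS hF fun P hP => ?_
    rcases hP with hP' | hP
    on_goal 1 => subst P
    · refine ⟨Subgroup.map_subtype_le _, fun γ hγ => ?_⟩
      rw [show (K.map S.subtype).subgroupOf S = K from
        Subgroup.comap_map_eq_self_of_injective S.subtype_injective K]
      exact Subgroup.eq_of_le_of_card_ge (by rintro _ ⟨x, hx, rfl⟩; exact hSi γ hγ x hx)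
        (Subgroup.card_map_of_injective γ.injective).ge
    · obtain ⟨hle, hinv⟩ := hEi P hP
      haveI := finite_of_le hP.1.1
      refine ⟨by rintro _ ⟨x, hx, rfl⟩; exact hle hx, fun α hα => ?_⟩
      refine Subgroup.eq_of_le_of_card_ge ?_ (Subgroup.card_map_of_injective α.injective).ge
      rintro _ ⟨x, hx, rfl⟩
      obtain ⟨y, hy, hyx⟩ := hx
      have hx' : Subgroup.inclusion hP.1.1 x ∈ K := by
        rwa [show Subgroup.inclusion hP.1.1 x = y from Subtype.ext hyx.symm]
      exact ⟨_, hinv hP.1.1 α hα x hx', rfl⟩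
  have h := le_core hn
  rw [hO, le_bot_iff, Subgroup.map_eq_bot_iff_of_injective _ S.subtype_injective] at h
  exact hK h

end Cfsg.Agent.Lib.RankThreePearl69
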