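import Cfsg.Agent.Lib.RankThreeEss69.TData

/-!
A block of size three in a subgroup of index `p` with three generators.
-/

set_option autoImplicit false
set_option linter.unusedSectionVars false

namespace Cfsg.Agent.Lib.RankThreePearl69

open Subgroup Cfsg.Agent.Lib.RankThreeEss69
open scoped commutatorElement

variable {G : Type*} [Group G] {p : ℕ} [hp : Fact p.Prime] [Finite G] (hG : IsPGroup p G)
include hG

/-- The shape of a block. -/
theorem block_facts {A : Subgroup G} (iA : Idx p A) {x u : G} (hu : u ∈ A)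
    (hd : ⁅x, ⁅x, u⁆⁆ ∉ fr p A) :
    x ∉ A ∧ A = fr p A ⊔ zpowers ⁅x, ⁅x, u⁆⁆ ⊔ zpowers ⁅x, u⁆ ⊔ zpowers u ∧
      ∀ g, ⁅⁅x, ⁅x, u⁆⁆, g⁆ ∈ fr p A := by
  haveI := iA.normal
  set c := ⁅x, u⁆ with hc
  set d := ⁅x, c⁆
  have hcA : c ∈ A := iA.comm_mem hG x u
  refine ⟨fun hx => hd (comm_mem_fr hx hcA), ?_⟩
  set f := fr p A with hf
  set L1 := ⁅A, (⊤ : Subgroup G)⁆ ⊔ f with hL1
  set L2 := ⁅L1, (⊤ : Subgroup G)⁆ ⊔ f with hL2
  haveI : L1.Normal := by rw [hL1, hf]; infer_instance
  haveI : L2.Normal := by rw [hL2, hf]; infer_instance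
  have h1A : L1 ≤ A := sup_le (commutator_le_left _ _) fr_le
  have h21 : L2 ≤ L1 := sup_le (commutator_le_left _ _) le_sup_right
  have hc1 : c ∈ L1 := mem_sup_left (by
    rw [hc, ← commutatorElement_inv]
    exact inv_mem (commutator_mem_commutator hu (mem_top x)))
  have hd2 : d ∈ L2 := mem_sup_left (by
    rw [show d = ⁅c, x⁆⁻¹ from (commutatorElement_inv c x).symm]
    exact inv_mem (commutator_mem_commutator hc1 (mem_top x)))
  have strict : ∀ X : Subgroup G, f ≤ X → d ∈ X → X.Normal → ⁅X, (⊤ : Subgroup G)⁆ ⊔ f < X := by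
    intro X hX hdX hn
    haveI := hn
    exact lt_of_le_of_ne (sup_le (commutator_le_left _ _) hX) fun e =>
      hd (le_of_le_comm_sup hG e.ge hdX)
  have e1 := card_mul_le' hG (strict A fr_le (h1A (h21 hd2)) inferInstance)
  have e2 := card_mul_le' hG (strict L1 le_sup_right (h21 hd2) inferInstance)
  rw [← hL1, iA.card, ← hf] at e1
  rw [← hL2] at e2
  have hL1c : Nat.card L1 ≤ Nat.card f * p ^ 2 := by
    refine Nat.le_of_mul_le_mul_right (e1.trans_eq ?_) hp.out.pos
    ring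
  have hL2c : Nat.card L2 ≤ Nat.card f * p := by
    refine Nat.le_of_mul_le_mul_right (e2.trans (hL1c.trans_eq ?_)) hp.out.pos
    ring
  have hcomm : ⁅L2, (⊤ : Subgroup G)⁆ ≤ f := comm_le_of_card_le hG le_sup_right hL2c
  have hL2e : L2 = f ⊔ zpowers d := eq_sup_zpowers hG le_sup_right hL2c hd2 hd
  have hL2card : Nat.card f * p ≤ Nat.card L2 := card_mul_le' hG
    (lt_of_le_of_ne le_sup_right fun e => hd (e.ge hd2))
  have hc2 : c ∉ L2 := fun h => hd (by
    rw [show d = ⁅c, x⁆⁻¹ from (commutatorElement_inv c x).symm]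
    exact inv_mem (hcomm (commutator_mem_commutator h (mem_top x))))
  have hL1e : L1 = L2 ⊔ zpowers c := eq_sup_zpowers hG h21 (hL1c.trans (by
    rw [sq, ← mul_assoc]; exact Nat.mul_le_mul_right p hL2card)) hc1 hc2
  have hL1card : Nat.card L2 * p ≤ Nat.card L1 := card_mul_le' hG
    (lt_of_le_of_ne h21 fun e => hc2 (e.ge hc1))
  have hu1 : u ∉ L1 := fun h => hc2 (mem_sup_left (by
    rw [hc, ← commutatorElement_inv]
    exact inv_mem (commutator_mem_commutator h (mem_top x))))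
  refine ⟨?_, fun g => hcomm (commutator_mem_commutator hd2 (mem_top g))⟩
  rw [← hL2e, ← hL1e]
  refine eq_sup_zpowers hG h1A ?_ hu hu1
  rw [iA.card, ← hf, show Nat.card f * p ^ 3 = Nat.card f * p * p * p by ring]
  exact Nat.mul_le_mul_right p ((Nat.mul_le_mul_right p hL2card).trans hL1card)

/-- Blocks of size three and transvections do not mix. -/
theorem false_of_regular_tdata (hp2 : p ≠ 2) {E A : Subgroup G} {τ : MulAut G} {n m : ℤ} {r e v : G}
    (T : TData p E τ n m r e v) (iA : Idx p A) (hreg : Regular p A) : False := by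
  obtain ⟨x, u, hu, hd⟩ := hreg
  obtain ⟨hxA, hA, -⟩ := block_facts hG iA hu hd
  set Φ := fr p (⊤ : Subgroup G) with hΦ
  have hle : (⊤ : Subgroup G) ≤ Φ ⊔ zpowers u ⊔ zpowers x := by
    rw [iA.top_eq hG hxA, hA]
    refine sup_le_sup_right (sup_le (sup_le (sup_le ?_ ?_) ?_) le_sup_right) _
    · exact (fr_mono le_top).trans le_sup_left
    · exact (zpowers_le.2 (comm_mem_fr (mem_top _) (mem_top _))).trans le_sup_left
    · exact (zpowers_le.2 (comm_mem_fr (mem_top _) (mem_top _))).trans le_sup_left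
  have h := (card_le_of_le hle).trans (card_gen2_le (p := p) (comm_mem_fr (mem_top u) (mem_top x))
    (pow_mem_fr (mem_top u)) (pow_mem_fr (mem_top x)))
  rw [hΦ, Subgroup.card_top, T.iE.card_top, T.iE.card, T.fr_top hG hp2, T.card_Phi hG] at h
  have h' : Nat.card (fr p E) * p ^ 4 ≤ Nat.card (fr p E) * p ^ 3 :=
    le_trans (le_of_eq (by ring)) (h.trans_eq (by ring))
  exact absurd (Nat.le_of_mul_le_mul_left h' Nat.card_pos)
    (_root_.not_le.2 (Nat.pow_lt_pow_right hp.out.one_lt (by norm_num)))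

end Cfsg.Agent.Lib.RankThreePearl69
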