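import Cfsg.Agent.Lib.FusionOrderFive.Jordan
import Cfsg.Agent.Lib.RankThreeEss69.CaseRegular

/-!
A group of automorphisms of a space of dimension three with a single Jordan block and no normal
`p`-subgroup leaves no proper subspace invariant.
-/

set_option autoImplicit false
set_option linter.unusedSectionVars false

namespace Cfsg.Agent.Lib.RankThreePearl69

open Subgroup Cfsg.Agent.Lib.FusionOrderFive Cfsg.Agent.Lib.Fusion87.RankThree

variable {V : Type*} [CommGroup V] {p : ℕ} [hp : Fact p.Prime]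

/-- The automorphisms trivial on the quotient by `W`. -/
def quotFix (A : Subgroup (MulAut V)) (W : Subgroup V)
    (hW : ∀ g ∈ A, ∀ w ∈ W, g w ∈ W) : Subgroup (MulAut V) where
  carrier := {b | b ∈ A ∧ ∀ v, b v * v⁻¹ ∈ W}
  one_mem' := ⟨one_mem _, fun v => by simp⟩
  mul_mem' := fun {b c} hb hc => ⟨A.mul_mem hb.1 hc.1, fun v => by
    have := W.mul_mem (hb.2 (c v)) (hc.2 v)
    simpa [mul_assoc] using this⟩
  inv_mem' := fun {b} hb => ⟨A.inv_mem hb.1, fun v => by
    have := W.inv_mem (hb.2 (b⁻¹ v))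
    rw [MulAut.apply_inv_self] at this
    simpa [mul_comm] using this⟩

/-- If the plane of a single Jordan block is invariant, so is its line. -/
theorem preserve_line (hp2 : p ≠ 2) (hexp : ∀ v : V, v ^ p = 1) {A : Subgroup (MulAut V)}
    (hA : ∀ a ∈ A, ∀ b ∈ A, a ^ p = 1 → b ^ p = 1 → Commute a b → a ≠ 1 → b ∈ zpowers a)
    {a : MulAut V} (ha : a ∈ A) (hap : a ^ p = 1) {x1 x2 x3 : V} (h1 : a x1 = x1 * x2)
    (h2 : a x2 = x2 * x3) (h3 : a x3 = x3) (h23 : x2 ∉ zpowers x3) (h30 : x3 ≠ 1)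
    (hgen : ∀ v : V, ∃ i j k : ℤ, v = x1 ^ i * x2 ^ j * x3 ^ k)
    (hW : ∀ g ∈ A, ∀ w ∈ zpowers x2 ⊔ zpowers x3, g w ∈ zpowers x2 ⊔ zpowers x3)
    {g : MulAut V} (hg : g ∈ A) : g x3 ∈ zpowers x3 := by
  by_contra hcon
  set W := zpowers x2 ⊔ zpowers x3 with hWdef
  have hWe : ∀ w ∈ W, ∃ j k : ℤ, w = x2 ^ j * x3 ^ k := by
    intro w hw
    obtain ⟨u, ⟨j, rfl⟩, v, ⟨k, rfl⟩, rfl⟩ := mem_sup.1 hw
    exact ⟨j, k, rfl⟩
  have hx2W : x2 ∈ W := mem_sup_left (mem_zpowers x2)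
  have hx3W : x3 ∈ W := mem_sup_right (mem_zpowers x3)
  have hat : ∀ i j k : ℤ, a (x1 ^ i * x2 ^ j * x3 ^ k) = x1 ^ i * x2 ^ j * x3 ^ k * x2 ^ i * x3 ^ j := by
    intro i j k
    rw [map_mul, map_mul, map_zpow, map_zpow, map_zpow, h3, h1, h2, mul_zpow, mul_zpow]
    simp only [mul_assoc, mul_comm, mul_left_comm]
  have haW : ∀ j k : ℤ, a (x2 ^ j * x3 ^ k) = x2 ^ j * x3 ^ k * x3 ^ j := fun j k => by
    have := hat 0 j k
    simpa using this
  set H := quotFix A W hW
  have haH : a ∈ H := ⟨ha, fun v => by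
    obtain ⟨i, j, k, rfl⟩ := hgen v
    rw [hat, show x1 ^ i * x2 ^ j * x3 ^ k * x2 ^ i * x3 ^ j * (x1 ^ i * x2 ^ j * x3 ^ k)⁻¹ =
      x2 ^ i * x3 ^ j by rw [mul_assoc (x1 ^ i * x2 ^ j * x3 ^ k), mul_comm, inv_mul_cancel_left]]
    exact mul_mem (W.zpow_mem hx2W _) (W.zpow_mem hx3W _)⟩
  have ht'H : g * a * g⁻¹ ∈ H := by
    refine ⟨A.mul_mem (A.mul_mem hg ha) (A.inv_mem hg), fun v => ?_⟩
    have e : (g * a * g⁻¹) v * v⁻¹ = g (a (g⁻¹ v) * (g⁻¹ v)⁻¹) := by
      simp [MulAut.mul_apply]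
    rw [e]
    exact hW g hg _ (haH.2 _)
  have hHW : ∀ b : H, ∀ w ∈ W, (b : MulAut V) w ∈ W := fun b => hW _ b.2.1
  let ρ : H →* MulAut W :=
    { toFun := fun b =>
        { toFun := fun w => ⟨(b : MulAut V) w, hHW b w w.2⟩
          invFun := fun w => ⟨((b⁻¹ : H) : MulAut V) w, hHW b⁻¹ w w.2⟩
          left_inv := fun w => Subtype.ext (by simp)
          right_inv := fun w => Subtype.ext (by simp)
          map_mul' := fun u v => Subtype.ext (by simp) }
      map_one' := MulEquiv.ext fun w => Subtype.ext rfl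
      map_mul' := fun b c => MulEquiv.ext fun w => Subtype.ext rfl }
  have hρ : ∀ (b : H) (w : W), ((ρ b w : W) : V) = (b : MulAut V) w := fun b w => rfl
  have hexpW : ∀ w : W, w ^ p = 1 := fun w => Subtype.ext (by simpa using hexp w)
  set z : W := ⟨x3, hx3W⟩
  set z' : W := ⟨g x3, hW g hg _ hx3W⟩
  have ht : IsMove (ρ ⟨a, haH⟩) z := fun w => by
    obtain ⟨j, k, hw⟩ := hWe w w.2
    refine ⟨j, Subtype.ext ?_⟩
    rw [hρ, Subgroup.coe_mul, Subgroup.coe_zpow, hw]
    exact haW j k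
  have htz : ρ ⟨a, haH⟩ z = z := Subtype.ext h3
  have ht' : IsMove (ρ ⟨_, ht'H⟩) z' := fun w => by
    obtain ⟨j, k, hw⟩ := hWe _ (hW _ (A.inv_mem hg) w w.2)
    refine ⟨j, Subtype.ext ?_⟩
    show g (a (g⁻¹ w)) = (w : V) * (g x3) ^ j
    rw [hw, haW, map_mul g, map_zpow g x3, ← hw, MulAut.apply_inv_self]
  have ht'z : ρ ⟨_, ht'H⟩ z' = z' := Subtype.ext (by
    show g (a (g⁻¹ (g x3))) = g x3
    rw [MulAut.inv_apply_self, h3])
  have h : ρ ⟨a, haH⟩ z' ≠ z' := by
    intro e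
    obtain ⟨j, k, hv⟩ := hWe _ (hW g hg _ hx3W)
    have e' : a (g x3) = g x3 := congrArg Subtype.val e
    rw [hv, haW, mul_eq_left] at e'
    refine hcon ?_
    rw [hv, zpow_congr hexp x2 (n := 0) (cast_eq_of_zpow_eq (hexp x3) h30 (by rw [e', zpow_zero])),
      zpow_zero, one_mul]
    exact zpow_mem (mem_zpowers x3) k
  have h' : ρ ⟨_, ht'H⟩ z ≠ z := by
    intro e
    obtain ⟨j, k, hv⟩ := hWe _ (hW _ (A.inv_mem hg) _ hx3W)
    have e' : g (a (g⁻¹ x3)) = x3 := congrArg Subtype.val e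
    rw [hv, haW, map_mul g, ← hv, MulAut.apply_inv_self, mul_eq_left] at e'
    have hj : x3 ^ j = 1 := g.injective (by rw [e', map_one])
    have hj0 := cast_eq_of_zpow_eq (hexp x3) h30 (j := 0) (by rw [hj, zpow_zero])
    rw [zpow_congr hexp x2 hj0, zpow_zero, one_mul] at hv
    have hx : x3 = (g x3) ^ k := by rw [← map_zpow, ← hv, MulAut.apply_inv_self]
    refine hcon (mem_zpowers_of_zpow hexp (i := k) (fun h0 => h30 ?_) (by
      rw [← hx]; exact mem_zpowers x3))
    rw [hx, zpow_congr hexp (g x3) (n := 0) (by rw [h0, Int.cast_zero]), zpow_zero]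
  obtain ⟨β', hβ', b1, b2, b3, -, b5⟩ :=
    exists_torus hexpW ht htz ht' ht'z h h' (n := -1) (m := -1) (by simp)
  obtain ⟨β, rfl⟩ : ∃ β : H, ρ β = β' := by
    have : closure ({ρ ⟨a, haH⟩, ρ ⟨_, ht'H⟩} : Set (MulAut W)) ≤ ρ.range := by
      rw [closure_le]
      rintro x (rfl | rfl)
      exacts [⟨_, rfl⟩, ⟨_, rfl⟩]
    exact this hβ'
  have hneg : ∀ w ∈ W, (β : MulAut V) w = w⁻¹ := by
    intro w hw
    obtain ⟨i, j, l, hl, hl', hv⟩ := b5 ⟨w, hw⟩
    have hl1 : l = 1 := by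
      obtain ⟨j', k', hl2⟩ := hWe l l.2
      have e : a (l : V) = l := congrArg Subtype.val hl
      rw [hl2, haW, mul_eq_left] at e
      have hfix := b3 _ hl hl'
      have hl3 : l = z ^ k' := Subtype.ext (by
        rw [Subgroup.coe_zpow, hl2, zpow_congr hexp x2
          (cast_eq_of_zpow_eq (hexp x3) h30 (j := 0) (by rw [e, zpow_zero])), zpow_zero, one_mul])
      rw [hl3, map_zpow, b1, ← zpow_mul] at hfix
      have hk := cast_eq_of_zpow_eq (hexpW z) (fun h0 => h30 (congrArg Subtype.val h0)) hfix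
      have hk0 : (k' : ZMod p) = ((0 : ℤ) : ZMod p) := by
        push_cast at hk ⊢
        have h2 : (2 : ZMod p) * k' = 0 := by linear_combination -hk
        refine (mul_eq_zero.1 h2).resolve_left fun h0 => ?_
        have h' : ((2 : ℕ) : ZMod p) = 0 := by simpa using h0
        rw [ZMod.natCast_eq_zero_iff] at h'
        exact hp2 ((Nat.prime_dvd_prime_iff_eq hp.out Nat.prime_two).1 h')
      rw [hl3, zpow_congr hexpW z hk0, zpow_zero]
    rw [hl1, mul_one] at hv
    have h1' := hρ β ⟨w, hw⟩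
    rw [hv, map_mul, map_zpow, map_zpow, b1, b2, zpow_neg_one, zpow_neg_one, inv_zpow, inv_zpow,
      ← mul_inv, ← hv] at h1'
    exact h1'.symm
  -- elements trivial on the plane are trivial
  have small : ∀ t : H, (∀ w ∈ W, (t : MulAut V) w = w) → (t : MulAut V) = 1 := by
    intro t htW
    obtain ⟨w, hwW, hw⟩ : ∃ w ∈ W, (t : MulAut V) x1 = x1 * w :=
      ⟨_, t.2.2 x1, by rw [mul_comm, inv_mul_cancel_right]⟩
    have happly : ∀ b : MulAut V, (∀ u ∈ W, b u = u) → ∀ i j k : ℤ,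
        b (x1 ^ i * x2 ^ j * x3 ^ k) = (b x1) ^ i * x2 ^ j * x3 ^ k := fun b hb i j k => by
      rw [map_mul, map_mul, map_zpow, map_zpow, map_zpow, hb x2 hx2W, hb x3 hx3W]
    have key : ∀ b b' : MulAut V, (∀ u ∈ W, b u = u) → (∀ u ∈ W, b' u = u) → b x1 = b' x1 → b = b' :=
      fun b b' hb hb' e => MulEquiv.ext fun v => by
        obtain ⟨i, j, k, rfl⟩ := hgen v
        rw [happly b hb, happly b' hb', e]
    by_contra hne
    have hpw : ∀ n : ℕ, ((t : MulAut V) ^ n) x1 = x1 * w ^ n ∧ ∀ u ∈ W, ((t : MulAut V) ^ n) u = u := by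
      intro n
      induction n with
      | zero => exact ⟨by simp, fun u _ => by simp⟩
      | succ n ih =>
        refine ⟨?_, fun u hu => by rw [pow_succ, MulAut.mul_apply, htW u hu, ih.2 u hu]⟩
        rw [pow_succ, MulAut.mul_apply, hw, map_mul, ih.1, ih.2 w hwW, pow_succ, mul_assoc]
    have htp : (t : MulAut V) ^ p = 1 := key _ _ (hpw p).2 (fun u _ => rfl)
      (by rw [(hpw p).1, hexp, mul_one]; rfl)
    set s := a * (t : MulAut V) * a⁻¹ with hs
    have hai : ∀ u ∈ W, a⁻¹ u ∈ W := fun u hu => hW _ (A.inv_mem ha) u hu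
    have hsW : ∀ u ∈ W, s u = u := fun u hu => by
      rw [hs, MulAut.mul_apply, MulAut.mul_apply, htW _ (hai u hu), MulAut.apply_inv_self]
    have hs1 : s x1 = x1 * a w := by
      obtain ⟨u, hu, he⟩ : ∃ u ∈ W, a⁻¹ x1 = x1 * u :=
        ⟨_, (H.inv_mem haH).2 x1, by rw [mul_comm, inv_mul_cancel_right]⟩
      rw [hs, MulAut.mul_apply, MulAut.mul_apply, he, map_mul, hw, htW u hu, mul_right_comm, map_mul,
        ← he, MulAut.apply_inv_self]
    have hsp : s ^ p = 1 := by rw [hs, conj_pow, htp, mul_one, mul_inv_cancel]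
    have hcomm : Commute (t : MulAut V) s := key _ _
      (fun u hu => by rw [MulAut.mul_apply, hsW u hu, htW u hu])
      (fun u hu => by rw [MulAut.mul_apply, htW u hu, hsW u hu]) (by
        show (t : MulAut V) (s x1) = s ((t : MulAut V) x1)
        rw [hs1, hw, map_mul, map_mul, hw, hs1,
          htW _ (hW a ha w hwW), hsW w hwW, mul_right_comm])
    obtain ⟨c, hc⟩ := mem_zpowers_iff.1 (hA _ t.2.1 _ (A.mul_mem (A.mul_mem ha t.2.1) (A.inv_mem ha))
      htp hsp hcomm hne)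
    obtain ⟨c', hc'⟩ : ∃ c' : ℕ, (t : MulAut V) ^ c = (t : MulAut V) ^ c' := by
      refine ⟨(c : ZMod p).val, ?_⟩
      rw [← zpow_natCast]
      exact RankThreeEss69.zpow_congr_mod htp (by simp)
    have haw : a w = w ^ c' := by
      have e := DFunLike.congr_fun hc x1
      rw [hc', (hpw c').1, hs1] at e
      exact (mul_left_cancel e).symm
    obtain ⟨j, k, hwjk⟩ := hWe w hwW
    rw [hwjk, haW, mul_pow, ← zpow_natCast, ← zpow_natCast (x3 ^ k), ← zpow_mul, ← zpow_mul] at haw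
    have hj : (j : ZMod p) = 0 := by
      have e : x2 ^ (j - j * c') = x3 ^ (k * c' - k - j) := by
        rw [zpow_sub, zpow_sub, zpow_sub, mul_inv_eq_iff_eq_mul, mul_comm _ (x2 ^ (j * (c' : ℤ))),
          ← mul_assoc, ← mul_assoc, ← haw, mul_right_comm (x2 ^ j * x3 ^ k), mul_inv_cancel_right,
          mul_inv_cancel_right]
      by_cases hc1 : ((j - j * c' : ℤ) : ZMod p) = 0
      · have e0 : x3 ^ (k * c' - k - j) = 1 := by
          rw [← e, zpow_congr hexp x2 (n := 0) (by rw [hc1, Int.cast_zero]), zpow_zero]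
        have e1 := cast_eq_of_zpow_eq (hexp x3) h30 (j := 0) (by rw [e0, zpow_zero])
        push_cast at e1 hc1
        by_cases hc2 : (c' : ZMod p) = 1
        · rw [hc2] at e1; linear_combination -e1
        · have : (1 - (c' : ZMod p)) * j = 0 := by linear_combination hc1
          exact (mul_eq_zero.1 this).resolve_left (sub_ne_zero.2 (Ne.symm hc2))
      · exact absurd (mem_zpowers_of_zpow hexp hc1 (by rw [e]; exact zpow_mem (mem_zpowers x3) _)) h23
    have hfixw : a w = w := by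
      rw [hwjk, haW, zpow_congr hexp x3 (m := j) (n := 0) (by rw [hj, Int.cast_zero]), zpow_zero,
        mul_one]
    have hta : Commute (t : MulAut V) a := by
      refine (mul_inv_eq_iff_eq_mul.1 (key (a * (t : MulAut V) * a⁻¹) t hsW htW (by
        rw [← hs, hs1, hfixw, hw]))).symm
    obtain ⟨d, hd⟩ := mem_zpowers_iff.1 (hA _ t.2.1 _ ha htp hap hta hne)
    refine h30 ?_
    have e : a x2 = x2 := by
      rw [← hd]
      have : ∀ n : ℤ, ((t : MulAut V) ^ n) x2 = x2 := fun n =>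
        zpow_mem (show (t : MulAut V) ∈ MulAction.stabilizer (MulAut V) x2 from htW x2 hx2W) n
      exact this d
    rw [h2, mul_eq_left] at e
    exact e
  have hcomm : a * (β : MulAut V) = (β : MulAut V) * a := by
    refine mul_inv_eq_one.1 (small (⟨a, haH⟩ * β * (β * ⟨a, haH⟩)⁻¹) fun w hw => ?_)
    show ((a * (β : MulAut V)) * ((β : MulAut V) * a)⁻¹) w = w
    have hu : ((β : MulAut V) * a)⁻¹ w ∈ W := hW _ (A.inv_mem (A.mul_mem β.2.1 ha)) w hw
    have e : ∀ u ∈ W, (a * (β : MulAut V)) u = ((β : MulAut V) * a) u := fun u hu => by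
      rw [MulAut.mul_apply, MulAut.mul_apply, hneg u hu, hneg _ (hW a ha u hu), map_inv]
    rw [MulAut.mul_apply, e _ hu, MulAut.apply_inv_self]
  obtain ⟨w, hwW, hw⟩ : ∃ w ∈ W, (β : MulAut V) x1 = x1 * w :=
    ⟨_, β.2.2 x1, by rw [mul_comm, inv_mul_cancel_right]⟩
  have e := DFunLike.congr_fun hcomm x1
  rw [MulAut.mul_apply, MulAut.mul_apply, hw, h1, map_mul, map_mul, h1, hw, hneg x2 hx2W,
    mul_assoc, mul_assoc] at e
  obtain ⟨j, k, hwjk⟩ := hWe w hwW
  have e2 := mul_left_cancel e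
  rw [hwjk, haW, mul_comm _ x2⁻¹, eq_inv_mul_iff_mul_eq, ← mul_assoc, ← mul_assoc (x2 * x2), mul_comm (x2 * x2),
    mul_assoc (x2 ^ j * x3 ^ k), mul_eq_left] at e2
  refine h23 (mem_zpowers_of_zpow hexp (i := 2) (fun h0 => ?_) ?_)
  · have h' : ((2 : ℕ) : ZMod p) = 0 := by simpa using h0
    rw [ZMod.natCast_eq_zero_iff] at h'
    exact hp2 ((Nat.prime_dvd_prime_iff_eq hp.out Nat.prime_two).1 h')
  · rw [zpow_two, eq_inv_of_mul_eq_one_left e2]
    exact inv_mem (zpow_mem (mem_zpowers x3) j)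

/-- No proper subspace is invariant. -/
theorem false_of_invariant_sub [Finite V] (hp2 : p ≠ 2) (h3c : Nat.card V = p ^ 3)
    (hexp : ∀ v : V, v ^ p = 1) {A : Subgroup (MulAut V)} {H : Subgroup A}
    (hH : Cfsg.IsStronglyPEmbedded p H)
    (hA : ∀ a ∈ A, ∀ b ∈ A, a ^ p = 1 → b ^ p = 1 → Commute a b → a ≠ 1 → b ∈ zpowers a)
    {a : MulAut V} (ha : a ∈ A) {x1 x2 x3 : V} (h1 : a x1 = x1 * x2)
    (h2 : a x2 = x2 * x3) (h3 : a x3 = x3) (h30 : x3 ≠ 1) {W : Subgroup V} (hW0 : W ≠ ⊥)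
    (hW1 : W ≠ ⊤) (hWi : ∀ g ∈ A, ∀ w ∈ W, g w ∈ W) : False := by
  have hab : ∀ u v : V, u * v = v * u := mul_comm
  have hV : IsPGroup p V := IsPGroup.of_card h3c
  have h23 : x2 ∉ zpowers x3 := fun h => h30 (by
    obtain ⟨k, hk⟩ := mem_zpowers_iff.1 h
    have e : a x2 = x2 := by rw [← hk, map_zpow, h3]
    rwa [h2, mul_eq_left] at e)
  have hfix3 : ∀ u ∈ zpowers x3, a u = u := fun u hu => by
    obtain ⟨k, rfl⟩ := mem_zpowers_iff.1 hu; rw [map_zpow, h3]
  have hP2c : Nat.card (zpowers x3 ⊔ zpowers x2 : Subgroup V) = p ^ 2 := by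
    rw [RankThreeEss69.card_sup_zpowers_eq hV (by rw [hexp]; exact one_mem _) h23, Nat.card_zpowers,
      orderOf_eq_prime (hexp x3) h30, sq]
  have h12 : x1 ∉ zpowers x3 ⊔ zpowers x2 := fun h => h23 (by
    obtain ⟨u, hu, k, he⟩ := RankThreeEss69.exists_of_mem_sup h
    have e : a x1 = x1 * x3 ^ k := by
      rw [he, map_mul, map_zpow, hfix3 u hu, h2, mul_zpow, mul_assoc]
    rw [h1, mul_right_inj] at e
    exact e ▸ zpow_mem (mem_zpowers x3) k)
  have hgen : ∀ v : V, ∃ i j k : ℤ, v = x1 ^ i * x2 ^ j * x3 ^ k := fun v => by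
    have htop : zpowers x3 ⊔ zpowers x2 ⊔ zpowers x1 = ⊤ := eq_top_of_le_card _ (by
      rw [RankThreeEss69.card_sup_zpowers_eq hV (by rw [hexp]; exact one_mem _) h12, hP2c, h3c]
      exact (pow_succ p 2).le)
    obtain ⟨u, hu, i, rfl⟩ := RankThreeEss69.exists_of_mem_sup (htop.ge (mem_top v))
    obtain ⟨w, hw, j, rfl⟩ := RankThreeEss69.exists_of_mem_sup hu
    obtain ⟨k, rfl⟩ := mem_zpowers_iff.1 hw
    exact ⟨i, j, k, by ac_rfl⟩
  have hdx : ∀ i j k : ℤ, disp a (x1 ^ i * x2 ^ j * x3 ^ k) = x2 ^ i * x3 ^ j := by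
    intro i j k
    rw [disp_mul hab, disp_mul hab, disp_zpow hab, disp_zpow hab, disp_zpow hab,
      show disp a x1 = x2 by rw [disp, h1, mul_right_comm, mul_inv_cancel, one_mul],
      show disp a x2 = x3 by rw [disp, h2, mul_right_comm, mul_inv_cancel, one_mul],
      disp_eq_one.2 h3, one_zpow, mul_one]
  have hd : ∀ w ∈ W, disp a w ∈ W := fun w hw => W.mul_mem (hWi a ha w hw) (W.inv_mem hw)
  have hx3 : x3 ∈ W := by
    obtain ⟨w, hw, hw1⟩ := W.bot_or_exists_ne_one.resolve_left hW0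
    obtain ⟨i, j, k, rfl⟩ := hgen w
    by_cases hi : (i : ZMod p) = 0
    · rw [zpow_congr hexp x1 (n := 0) (by rw [hi, Int.cast_zero]), zpow_zero, one_mul] at hw hw1
      by_cases hj : (j : ZMod p) = 0
      · rw [zpow_congr hexp x2 (n := 0) (by rw [hj, Int.cast_zero]), zpow_zero, one_mul] at hw hw1
        exact mem_zpowers_of_zpow hexp (fun h0 => hw1 (by
          rw [zpow_congr hexp x3 (n := 0) (by rw [h0, Int.cast_zero]), zpow_zero])) hw
      · have := hd _ hw
        rw [show x2 ^ j * x3 ^ k = x1 ^ (0 : ℤ) * x2 ^ j * x3 ^ k by simp, hdx, zpow_zero, one_mul]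
          at this
        exact mem_zpowers_of_zpow hexp hj this
    · have h' := hd _ hw
      rw [hdx] at h'
      have h'' := hd _ h'
      rw [show x2 ^ i * x3 ^ j = x1 ^ (0 : ℤ) * x2 ^ i * x3 ^ j by simp, hdx, zpow_zero, one_mul] at h''
      exact mem_zpowers_of_zpow hexp hi h''
  set P2 := zpowers x2 ⊔ zpowers x3 with hP2
  have hap : a ^ p = 1 := seriesStab_pow hab h3c hexp hp2 (c := x2) (d := x3) ⟨h3,
    by rw [disp, h2, mul_right_comm, mul_inv_cancel, one_mul]; exact mem_zpowers _, fun v => by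
      obtain ⟨i, j, k, rfl⟩ := hgen v
      rw [hdx]
      exact mul_mem (mem_sup_left (zpow_mem (mem_zpowers _) _)) (mem_sup_right (zpow_mem (mem_zpowers _) _))⟩
  -- the line and the plane are invariant
  obtain ⟨hL, hP⟩ : (∀ g ∈ A, g x3 ∈ zpowers x3) ∧ ∀ g ∈ A, ∀ w ∈ P2, g w ∈ P2 := by
    by_cases hx2 : x2 ∈ W
    · have hWP : W = P2 := by
        refine le_antisymm (fun w hw => ?_) (sup_le (zpowers_le.2 hx2) (zpowers_le.2 hx3))
        obtain ⟨i, j, k, rfl⟩ := hgen w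
        have hjk : x2 ^ j * x3 ^ k ∈ W := W.mul_mem (W.zpow_mem hx2 j) (W.zpow_mem hx3 k)
        by_cases hi : (i : ZMod p) = 0
        · rw [zpow_congr hexp x1 (n := 0) (by rw [hi, Int.cast_zero]), zpow_zero, one_mul]
          exact mul_mem (mem_sup_left (zpow_mem (mem_zpowers _) _))
            (mem_sup_right (zpow_mem (mem_zpowers _) _))
        · refine absurd ((eq_top_iff' W).2 fun v => ?_) hW1
          have hx1 : x1 ∈ W := mem_zpowers_of_zpow hexp hi (by
            have := W.mul_mem hw (W.inv_mem hjk)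
            rwa [mul_assoc (x1 ^ i), mul_inv_cancel_right] at this)
          obtain ⟨a', b', c', rfl⟩ := hgen v
          exact W.mul_mem (W.mul_mem (W.zpow_mem hx1 _) (W.zpow_mem hx2 _)) (W.zpow_mem hx3 _)
      rw [hWP] at hWi
      exact ⟨fun g hg => preserve_line hp2 hexp hA ha hap h1 h2 h3 h23 h30 hgen hWi hg, hWi⟩
    · have hWL : ∀ w ∈ W, w ∈ zpowers x3 := fun w hw => by
        obtain ⟨i, j, k, rfl⟩ := hgen w
        have hi : (i : ZMod p) = 0 := by
          by_contra hi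
          refine hx2 (mem_zpowers_of_zpow hexp hi ?_)
          have := W.mul_mem (hd _ hw) (W.inv_mem (W.zpow_mem hx3 j))
          rwa [hdx, mul_inv_cancel_right] at this
        rw [zpow_congr hexp x1 (n := 0) (by rw [hi, Int.cast_zero]), zpow_zero, one_mul] at hw ⊢
        have hj : (j : ZMod p) = 0 := by
          by_contra hj
          refine hx2 (mem_zpowers_of_zpow hexp hj ?_)
          have := W.mul_mem hw (W.inv_mem (W.zpow_mem hx3 k))
          rwa [mul_inv_cancel_right] at this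
        rw [zpow_congr hexp x2 (n := 0) (by rw [hj, Int.cast_zero]), zpow_zero, one_mul]
        exact zpow_mem (mem_zpowers _) _
      have hL : ∀ g ∈ A, g x3 ∈ zpowers x3 := fun g hg => hWL _ (hWi g hg x3 hx3)
      refine ⟨hL, fun g hg w hw => ?_⟩
      have hle : P2.map g.toMonoidHom ≤ P2 := by
        rw [hP2, Subgroup.map_sup, MonoidHom.map_zpowers, MonoidHom.map_zpowers]
        refine sup_le (zpowers_le.2 ?_) (zpowers_le.2 (mem_sup_right (hL g hg)))
        obtain ⟨j, k, hjk⟩ := preserve_of_jordan hp2 hexp hA ha hap h1 h2 h3 h23 h30 hgen hL hg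
        show g x2 ∈ _
        rw [hjk]
        exact mul_mem (mem_sup_left (zpow_mem (mem_zpowers _) _)) (mem_sup_right (zpow_mem (mem_zpowers _) _))
      exact hle (mem_map_of_mem _ hw)
  have hQn : ((seriesStab hab x2 x3).subgroupOf A).Normal := by
    refine ⟨fun s hs g => ?_⟩
    obtain ⟨s1, s2, s3⟩ := hs
    have hd' : ∀ v, disp ((g : MulAut V) * (s : MulAut V) * (g : MulAut V)⁻¹) v =
        (g : MulAut V) (disp (s : MulAut V) ((g : MulAut V)⁻¹ v)) := fun v => by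
      simp [disp, MulAut.mul_apply]
    have hfix : ∀ u ∈ zpowers x3, (s : MulAut V) u = u := fun u hu => by
      obtain ⟨k, rfl⟩ := mem_zpowers_iff.1 hu
      rw [map_zpow]; exact congrArg (· ^ k) s1
    refine ⟨?_, ?_, fun v => ?_⟩
    · show (g : MulAut V) ((s : MulAut V) ((g : MulAut V)⁻¹ x3)) = x3
      rw [hfix _ (hL _ (A.inv_mem g.2)), MulAut.apply_inv_self]
    · show disp ((g : MulAut V) * (s : MulAut V) * (g : MulAut V)⁻¹) x2 ∈ _
      rw [hd']
      obtain ⟨j, hj, k, hk, hjk⟩ := mem_sup.1 (hP _ (A.inv_mem g.2) x2 (mem_sup_left (mem_zpowers x2)))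
      obtain ⟨j', rfl⟩ := mem_zpowers_iff.1 hj
      rw [← hjk, disp_mul hab, disp_zpow hab, disp_eq_one.2 (hfix k hk), mul_one, map_zpow]
      obtain ⟨i, hi⟩ := mem_zpowers_iff.1 s2
      rw [show disp (s : MulAut V) x2 = x3 ^ i from hi.symm, map_zpow]
      exact zpow_mem (zpow_mem (hL g g.2) i) j'
    · show disp ((g : MulAut V) * (s : MulAut V) * (g : MulAut V)⁻¹) v ∈ _
      rw [hd']
      exact hP g g.2 _ (s3 _)
  have hQp : IsPGroup p ((seriesStab hab x2 x3).subgroupOf A) := fun s => ⟨1, by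
    rw [pow_one]
    exact Subtype.ext (Subtype.ext (seriesStab_pow hab h3c hexp hp2 s.2))⟩
  haveI : Finite (MulAut V) := Finite.of_injective
    (fun b : MulAut V => (b : V → V)) DFunLike.coe_injective
  refine RankThreeEss69.false_of_normal_pgroup hH hQn hQp fun hbot => ?_
  have hmem : (⟨a, ha⟩ : A) ∈ (seriesStab hab x2 x3).subgroupOf A := ⟨h3,
    by show disp a x2 ∈ _; rw [disp, h2, mul_right_comm, mul_inv_cancel, one_mul]; exact mem_zpowers _,
    fun v => by
      obtain ⟨i, j, k, rfl⟩ := hgen v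
      show disp a (x1 ^ i * x2 ^ j * x3 ^ k) ∈ _
      rw [hdx]
      exact mul_mem (mem_sup_left (zpow_mem (mem_zpowers _) _)) (mem_sup_right (zpow_mem (mem_zpowers _) _))⟩
  rw [hbot, mem_bot] at hmem
  have e1 : a = 1 := congrArg Subtype.val hmem
  rw [e1, MulAut.one_apply, left_eq_mul] at h2
  exact h30 h2

end Cfsg.Agent.Lib.RankThreePearl69
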