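import Cfsg.Agent.Lib.RankThreeEss69.TData
import Cfsg.Agent.Lib.RankThreeEss69.Setup

/-!
In a group of rank three whose Frattini quotient has no proper characteristic section, an element of
order `p` with commutators in the centre of exponent `p` is central.
-/

set_option autoImplicit false
set_option linter.unusedSectionVars false

namespace Cfsg.Agent.Lib.RankThreePearl69

open Subgroup Cfsg.Agent.Lib.RankThreeEss69
open scoped commutatorElement

variable {P : Type*} [Group P] {p : ℕ}

/-- The elements of order dividing `p` in the centre. -/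
def omegaZ (p : ℕ) (P : Type*) [Group P] : Subgroup P where
  carrier := {x | x ∈ center P ∧ x ^ p = 1}
  one_mem' := ⟨one_mem _, one_pow p⟩
  mul_mem' := fun {x y} hx hy => ⟨mul_mem hx.1 hy.1, by
    rw [Commute.mul_pow ((mem_center_iff.1 hy.1 x)), hx.2, hy.2, one_mul]⟩
  inv_mem' := fun {x} hx => ⟨inv_mem hx.1, by rw [inv_pow, hx.2, inv_one]⟩

theorem omegaZ_commute {z : P} (hz : z ∈ omegaZ p P) (g : P) : Commute z g :=
  (mem_center_iff.1 hz.1 g).symm

theorem omegaZ_aut (α : MulAut P) {x : P} (hx : x ∈ omegaZ p P) : α x ∈ omegaZ p P := by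
  refine ⟨mem_center_iff.2 fun g => ?_, by rw [← map_pow, hx.2, map_one]⟩
  obtain ⟨g, rfl⟩ := α.surjective g
  rw [← map_mul, ← map_mul, mem_center_iff.1 hx.1 g]

instance omegaZ_normal : (omegaZ p P).Normal :=
  ⟨fun n hn g => by rw [← (omegaZ_commute hn g).eq, mul_inv_cancel_right]; exact hn⟩

variable [hp : Fact p.Prime] [Finite P] (hP : IsPGroup p P)
include hP

omit hp [Finite P] hP in
/-- The second step of the series starting at `omegaZ`. -/
def secondZ (p : ℕ) (P : Type*) [Group P] : Subgroup P :=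
  (center (P ⧸ omegaZ p P)).comap (QuotientGroup.mk' _)

omit hp [Finite P] hP in
theorem mem_secondZ {x : P} : x ∈ secondZ p P ↔ ∀ b, ⁅x, b⁆ ∈ omegaZ p P := by
  rw [secondZ, mem_comap, mem_center_iff]
  constructor
  · intro h b
    exact comm_mem_iff.2 (h (QuotientGroup.mk' _ b)).symm
  · intro h q
    induction q using QuotientGroup.induction_on with
    | _ b => exact (comm_mem_iff.1 (h b)).eq.symm

omit hp [Finite P] hP in
theorem two_secondZ : Two p (secondZ p P) :=
  ⟨fun _ ha b _ x _ => omegaZ_commute (mem_secondZ.1 ha b) x, fun _ ha b _ => (mem_secondZ.1 ha b).2⟩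

omit hp [Finite P] hP in
theorem comm_hom {a : P} (ha : a ∈ secondZ p P) (g h : P) : ⁅a, g * h⁆ = ⁅a, g⁆ * ⁅a, h⁆ := by
  have e : ⁅a, g * h⁆ = ⁅a, g⁆ * (g * ⁅a, h⁆ * g⁻¹) := by simp only [commutatorElement_def]; group
  rw [e, ← (omegaZ_commute (mem_secondZ.1 ha h) g).eq, mul_inv_cancel_right]

omit hp [Finite P] hP in
/-- Commutation with an element of the second step. -/
def commHom {a : P} (ha : a ∈ secondZ p P) : P →* omegaZ p P :=
  MonoidHom.mk' (fun g => ⟨⁅a, g⁆, mem_secondZ.1 ha g⟩) fun g h => Subtype.ext (comm_hom ha g h)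

omit hp [Finite P] hP in
theorem mem_ker_commHom {a g : P} (ha : a ∈ secondZ p P) : g ∈ (commHom ha).ker ↔ ⁅a, g⁆ = 1 :=
  ⟨fun h => congrArg Subtype.val h, fun h => Subtype.ext h⟩

omit hp hP in
theorem index_ker_commHom_le {a : P} (ha : a ∈ secondZ p P) :
    (commHom ha).ker.index ≤ Nat.card (omegaZ p P) := by
  rw [index_ker]
  exact card_le_card_group _

omit hP in
theorem fr_le_ker {a : P} (ha : a ∈ secondZ p P) : fr p (⊤ : Subgroup P) ≤ (commHom ha).ker := by
  refine fr_le_of (fun g _ => ?_) fun g _ h _ => ?_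
  · rw [MonoidHom.mem_ker, map_pow]
    exact Subtype.ext (mem_secondZ.1 ha g).2
  · rw [MonoidHom.mem_ker, map_commutatorElement]
    refine Subtype.ext ?_
    exact commutatorElement_eq_one_iff_commute.2 (omegaZ_commute (mem_secondZ.1 ha g) _)

theorem mem_center_of_small (hp2 : p ≠ 2) (hr : Cfsg.SectionalPRankLE p 3 P)
    (hc : Nat.card P = Nat.card (fr p (⊤ : Subgroup P)) * p ^ 3)
    (hirr : ∀ K : Subgroup P, fr p ⊤ ≤ K → (∀ α : MulAut P, ∀ k ∈ K, α k ∈ K) → K = fr p ⊤ ∨ K = ⊤)
    {x : P} (hxp : x ^ p = 1) (hx : ∀ b, ⁅x, b⁆ ∈ omegaZ p P) : x ∈ center P := by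
  set V := omegaZ p P with hV
  set Φ := fr p (⊤ : Subgroup P) with hΦ
  have hcen : ∀ {a b : P}, a ∈ V → ⁅a, b⁆ = 1 := fun {a b} ha =>
    commutatorElement_eq_one_iff_commute.2 (omegaZ_commute ha b)
  let X : Subgroup P :=
    { carrier := {y | y ∈ secondZ p P ∧ y ^ p = 1}
      one_mem' := ⟨one_mem _, one_pow p⟩
      mul_mem' := fun {a b} ha hb => ⟨mul_mem ha.1 hb.1, by
        rw [two_secondZ.mul_pow_eq hp2 ha.1 hb.1, ha.2, hb.2, one_mul]⟩
      inv_mem' := fun {a} ha => ⟨inv_mem ha.1, by rw [inv_pow, ha.2, inv_one]⟩ }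
  have hxX : x ∈ X := ⟨mem_secondZ.2 hx, hxp⟩
  have hVX : V ≤ X := fun a ha => ⟨mem_secondZ.2 fun b => by rw [hcen ha]; exact one_mem _, ha.2⟩
  have hXaut : ∀ α : MulAut P, ∀ a ∈ X, α a ∈ X := fun α a ha => by
    refine ⟨mem_secondZ.2 fun b => ?_, by rw [← map_pow, ha.2, map_one]⟩
    obtain ⟨b, rfl⟩ := α.surjective b
    rw [← map_commutatorElement]
    exact omegaZ_aut α (mem_secondZ.1 ha.1 b)
  let C : Subgroup P := ⨅ a : X, (commHom a.2.1).ker
  have hC : ∀ {g}, g ∈ C ↔ ∀ a ∈ X, ⁅a, g⁆ = 1 := fun {g} => by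
    rw [mem_iInf]
    exact ⟨fun h a ha => (mem_ker_commHom _).1 (h ⟨a, ha⟩), fun h a => (mem_ker_commHom _).2 (h a a.2)⟩
  have hΦC : Φ ≤ C := le_iInf fun a => fr_le_ker _
  rcases hirr C hΦC (fun α g hg => hC.2 fun a ha => by
      obtain ⟨a, rfl⟩ := α.surjective a
      have ha' : a ∈ X := by simpa using hXaut α⁻¹ _ ha
      rw [← map_commutatorElement, hC.1 hg a ha', map_one]) with hCe | hCe
  swap
  · exact mem_center_iff.2 fun g => (commutatorElement_eq_one_iff_mul_comm.1
      (hC.1 (hCe.ge (mem_top g)) x hxX)).symm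
  by_contra hxZ
  have hxV : x ∉ V := fun h => hxZ h.1
  have hV0 : V ≠ ⊥ := by
    haveI : Nontrivial P := ⟨⟨x, 1, fun h => hxZ (h ▸ one_mem _)⟩⟩
    haveI := hP.center_nontrivial
    obtain ⟨z, hz⟩ := exists_ne (1 : center P)
    obtain ⟨k, hk⟩ := hP (z : P)
    intro hb
    have : ∀ j, (z : P) ^ p ^ j = 1 → (z : P) = 1 := by
      intro j
      induction j with
      | zero => intro h; simpa using h
      | succ j ih =>
        intro h
        refine ih (mem_bot.1 (hb.le (show (z : P) ^ p ^ j ∈ V from ⟨pow_mem z.2 _, ?_⟩)))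
        rw [← pow_mul, ← pow_succ, h]
    exact hz (Subtype.ext (this k hk))
  have hVc : p ≤ Nat.card V := by
    have := card_mul_le' hP (bot_lt_iff_ne_bot.2 hV0)
    rwa [card_bot, one_mul] at this
  have hfi : Φ.index = p ^ 3 := by
    have h := Φ.card_mul_index
    rw [hc] at h
    exact Nat.eq_of_mul_eq_mul_left Nat.card_pos h
  haveI : V.Normal := omegaZ_normal
  set W := V ⊔ zpowers x with hW
  have hWc : Nat.card W = Nat.card V * p :=
    card_sup_zpowers_eq hP (by rw [hxp]; exact one_mem _) hxV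
  have hWX : W ≤ X := sup_le hVX (zpowers_le.2 hxX)
  have elem : ∀ H : Subgroup P, (∀ a ∈ H, ∀ b ∈ H, ⁅a, b⁆ = 1) → (∀ a ∈ H, a ^ p = 1) →
      Nat.card H ≤ p ^ 3 := fun H h1 h2 => by
    have h := card_le_of_rank hP hr (K := ⊥) (H := H) ⟨bot_le, fun a ha b hb => mem_bot.2 (h1 a ha b hb),
      fun a ha => mem_bot.2 (h2 a ha)⟩
    rwa [card_bot, one_mul] at h
  let K1 : Subgroup P := X ⊔ Φ
  rcases hirr K1 le_sup_right (fun α k hk => by
      have h := mem_map_of_mem α.toMonoidHom hk
      refine (?_ : K1.map α.toMonoidHom ≤ K1) h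
      rw [Subgroup.map_sup, hΦ, map_fr, map_top_of_surjective _ α.surjective]
      exact sup_le_sup_right (by rintro _ ⟨a, ha, rfl⟩; exact hXaut α a ha) _) with hK | hK
  · -- `X` is elementary abelian
    have hXab : ∀ a ∈ X, ∀ b ∈ X, ⁅a, b⁆ = 1 := fun a ha b hb =>
      hC.1 (hΦC (hK.le (mem_sup_left hb))) a ha
    have hXc := elem X hXab fun a ha => ha.2
    have hker : ∀ {a} (ha : a ∈ secondZ p P), (commHom ha).ker.index ≤ Nat.card V :=
      fun ha => index_ker_commHom_le ha
    have hcase : ∀ H : Subgroup P, H ≤ C → H.index < p ^ 3 → False := fun H hH hi => by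
      have := index_antitone (hH.trans hCe.le)
      rw [hfi] at this
      exact absurd this (_root_.not_le.2 hi)
    by_cases hWX' : X ≤ W
    · refine hcase (commHom hxX.1).ker (fun g hg => hC.2 fun a ha => ?_) ?_
      · obtain ⟨v, hv, i, rfl⟩ := exists_of_mem_sup (hWX' ha)
        have hgx : Commute g x := (commutatorElement_eq_one_iff_commute.1 ((mem_ker_commHom _).1 hg)).symm
        exact commutatorElement_eq_one_iff_commute.2
          (((omegaZ_commute hv g).symm.mul_right (hgx.zpow_right i)).symm)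
      · refine (hker hxX.1).trans_lt ?_
        have h := (card_le_of_le hWX).trans hXc
        rw [hWc] at h
        calc Nat.card V < Nat.card V * p := lt_mul_of_one_lt_right Nat.card_pos hp.out.one_lt
          _ ≤ p ^ 3 := h
    obtain ⟨b, hbX, hbW⟩ := SetLike.not_le_iff_exists.1 hWX'
    haveI : W.Normal := sup_zpowers_normal (K := V) (mem_secondZ.1 hxX.1)
    have hW2 : Nat.card (W ⊔ zpowers b : Subgroup P) = Nat.card V * p * p := by
      rw [card_sup_zpowers_eq hP (by rw [hbX.2]; exact one_mem _) hbW, hWc]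
    have h2 := (card_le_of_le (sup_le hWX (zpowers_le.2 hbX))).trans hXc
    rw [hW2, show p ^ 3 = p * p * p by ring] at h2
    have hVp : Nat.card V ≤ p :=
      Nat.le_of_mul_le_mul_right (Nat.le_of_mul_le_mul_right h2 hp.out.pos) hp.out.pos
    have hXe : X = W ⊔ zpowers b := (eq_of_le_of_card_ge (sup_le hWX (zpowers_le.2 hbX)) (by
      rw [hW2]
      refine hXc.trans ?_
      rw [show p ^ 3 = p * p * p by ring]
      exact Nat.mul_le_mul_right p (Nat.mul_le_mul_right p hVc))).symm
    refine hcase ((commHom hxX.1).ker ⊓ (commHom hbX.1).ker) (fun g hg => hC.2 fun a ha => ?_) ?_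
    · obtain ⟨w, hw, j, rfl⟩ := exists_of_mem_sup (hXe.le ha)
      obtain ⟨v, hv, i, rfl⟩ := exists_of_mem_sup hw
      have hgx : Commute x g := commutatorElement_eq_one_iff_commute.1 ((mem_ker_commHom _).1 hg.1)
      have hgb : Commute b g := commutatorElement_eq_one_iff_commute.1 ((mem_ker_commHom _).1 hg.2)
      exact commutatorElement_eq_one_iff_commute.2
        (((omegaZ_commute hv g).mul_left (hgx.zpow_left i)).mul_left (hgb.zpow_left j))
    · refine index_inf_le.trans_lt ?_
      refine (Nat.mul_le_mul ((hker _).trans hVp) ((hker _).trans hVp)).trans_lt ?_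
      rw [← sq]; exact Nat.pow_lt_pow_right hp.out.one_lt (by norm_num)
  · -- exponent `p` and class two
    have hX : X = ⊤ := by
      refine frattini_nongenerating ?_
      rw [← fr_top_eq_frattini hP, ← hΦ]
      exact hK
    have hin : ∀ g : P, g ∈ secondZ p P ∧ g ^ p = 1 := fun g => hX.ge (mem_top g)
    have hΦV : Φ ≤ V := fr_le_of (fun g _ => by rw [(hin g).2]; exact one_mem _)
      fun g _ h _ => mem_secondZ.1 (hin g).1 h
    have hVΦ : V ≤ Φ := fun v hv => hCe.le (hC.2 fun a _ => by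
      rw [← commutatorElement_inv, hcen hv, inv_one])
    have hVe : V = Φ := le_antisymm hVΦ hΦV
    rw [← hVe] at hc hfi
    have noC : ∀ a b : P, a ∉ V → ⁅a, b⁆ = 1 → p ^ 2 ≤ Nat.card V → b ∈ V ⊔ zpowers a := by
      intro a b ha hab hv2
      by_contra hb
      haveI : (V ⊔ zpowers a).Normal := sup_zpowers_normal (mem_secondZ.1 (hin a).1)
      have hcl : ∀ g ∈ V ⊔ zpowers a ⊔ zpowers b, ∀ h ∈ V ⊔ zpowers a ⊔ zpowers b, ⁅g, h⁆ = 1 := by
        have hab' : Commute a b := commutatorElement_eq_one_iff_commute.1 hab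
        have hcm : ∀ g ∈ V ⊔ zpowers a ⊔ zpowers b, Commute g a ∧ Commute g b := by
          intro g hg
          obtain ⟨w, hw, j, rfl⟩ := exists_of_mem_sup hg
          obtain ⟨v, hv, i, rfl⟩ := exists_of_mem_sup hw
          exact ⟨((omegaZ_commute hv a).mul_left ((Commute.refl a).zpow_left i)).mul_left
              (hab'.symm.zpow_left j),
            ((omegaZ_commute hv b).mul_left (hab'.zpow_left i)).mul_left ((Commute.refl b).zpow_left j)⟩
        intro g hg h hh
        obtain ⟨w, hw, j, rfl⟩ := exists_of_mem_sup hh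
        obtain ⟨v, hv, i, rfl⟩ := exists_of_mem_sup hw
        exact commutatorElement_eq_one_iff_commute.2
          (((omegaZ_commute hv g).symm.mul_right ((hcm g hg).1.zpow_right i)).mul_right
            ((hcm g hg).2.zpow_right j))
      have h := elem _ hcl fun g _ => (hin g).2
      rw [card_sup_zpowers_eq hP (by rw [(hin b).2]; exact one_mem _) hb,
        card_sup_zpowers_eq hP (by rw [(hin a).2]; exact one_mem _) ha] at h
      have h4 : p ^ 4 ≤ p ^ 3 := le_trans (le_trans (le_of_eq (by ring))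
        (Nat.mul_le_mul_right p (Nat.mul_le_mul_right p hv2))) h
      exact absurd h4 (_root_.not_le.2 (Nat.pow_lt_pow_right hp.out.one_lt (by norm_num)))
    obtain ⟨a, ha⟩ : ∃ a, a ∉ V := ⟨x, hxV⟩
    set Ca := (commHom (hin a).1).ker with hCa
    have haC : V ⊔ zpowers a ≤ Ca := sup_le
      (fun v hv => (mem_ker_commHom _).2 (by rw [← commutatorElement_inv, hcen hv, inv_one]))
      (zpowers_le.2 ((mem_ker_commHom _).2 (commutatorElement_self a)))
    haveI hVa : (V ⊔ zpowers a).Normal := sup_zpowers_normal (mem_secondZ.1 (hin a).1)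
    have hVac : Nat.card (V ⊔ zpowers a : Subgroup P) = Nat.card V * p :=
      card_sup_zpowers_eq hP (by rw [(hin a).2]; exact one_mem _) ha
    have hCac : Nat.card V * p ^ 3 ≤ Nat.card Ca * Nat.card V := by
      rw [← hc, ← Ca.card_mul_index]
      exact Nat.mul_le_mul_left _ (index_ker_commHom_le _)
    have hV2 : Nat.card V ≤ p ^ 2 := by
      have h := elem (V ⊔ zpowers a) (fun g hg h hh => by
        obtain ⟨v, hv, i, rfl⟩ := exists_of_mem_sup hg
        obtain ⟨v', hv', i', rfl⟩ := exists_of_mem_sup hh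
        exact commutatorElement_eq_one_iff_commute.2 ((omegaZ_commute hv _).mul_left
          (((omegaZ_commute hv' _).symm).mul_right ((Commute.refl a).zpow_zpow i i')))) fun g _ => (hin g).2
      rw [hVac, pow_succ p 2] at h
      exact Nat.le_of_mul_le_mul_right h hp.out.pos
    obtain ⟨j, hj⟩ := IsPGroup.iff_card.1 (hP.to_subgroup V)
    have hj2 : j ≤ 2 := (Nat.pow_le_pow_iff_right hp.out.one_lt).1 (hj ▸ hV2)
    have hj1 : 1 ≤ j := (Nat.pow_le_pow_iff_right hp.out.one_lt).1 (by rw [pow_one, ← hj]; exact hVc)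
    rcases (show j = 1 ∨ j = 2 by omega) with rfl | rfl
    · -- a radical element
      rw [pow_one] at hj
      obtain ⟨b, hb, hbV⟩ : ∃ b ∈ Ca, b ∉ V ⊔ zpowers a := by
        by_contra hall
        push Not at hall
        have h1 := hCac.trans (Nat.mul_le_mul_right _ (card_le_of_le hall))
        rw [hVac, hj] at h1
        have h2 : p ^ 4 ≤ p ^ 3 := le_trans (le_of_eq (by ring)) (h1.trans_eq (by ring))
        exact absurd h2 (_root_.not_le.2 (Nat.pow_lt_pow_right hp.out.one_lt (by norm_num)))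
      haveI : (V ⊔ zpowers a ⊔ zpowers b).Normal := sup_zpowers_normal fun g =>
        mem_sup_left (mem_secondZ.1 (hin b).1 g)
      have h3c : Nat.card (V ⊔ zpowers a ⊔ zpowers b : Subgroup P) = Nat.card V * p * p := by
        rw [card_sup_zpowers_eq hP (by rw [(hin b).2]; exact one_mem _) hbV, hVac]
      obtain ⟨g, -, hg⟩ := SetLike.exists_of_lt (lt_top_iff_ne_top.2 (fun e : V ⊔ zpowers a ⊔ zpowers b = ⊤ => by
        rw [e, card_top, hc, hj] at h3c
        have h2 : p ^ 4 = p ^ 3 := le_antisymm (le_of_eq ((by ring : p ^ 4 = p * p ^ 3).trans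
          (h3c.trans (by ring)))) (Nat.pow_le_pow_right hp.out.pos (by norm_num))
        exact absurd h2 (Nat.pow_lt_pow_right hp.out.one_lt (by norm_num)).ne'))
      have htop : (⊤ : Subgroup P) = V ⊔ zpowers a ⊔ zpowers b ⊔ zpowers g :=
        eq_sup_zpowers hP le_top (by rw [card_top, hc, h3c]; exact le_of_eq (by ring)) (mem_top g) hg
      have hab : Commute a b := commutatorElement_eq_one_iff_commute.1 ((mem_ker_commHom _).1 hb)
      have cen : ∀ y, Commute y a → Commute y b → Commute y g → y ∈ V := fun y y1 y2 y3 => by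
        refine ⟨mem_center_iff.2 fun q => ?_, (hin y).2⟩
        obtain ⟨u, hu, k, rfl⟩ := exists_of_mem_sup (htop.le (mem_top q))
        obtain ⟨w, hw, l, rfl⟩ := exists_of_mem_sup hu
        obtain ⟨v, hv, i, rfl⟩ := exists_of_mem_sup hw
        exact ((((omegaZ_commute hv y).symm.mul_right (y1.zpow_right i)).mul_right
          (y2.zpow_right l)).mul_right (y3.zpow_right k)).eq.symm
      by_cases hag : ⁅a, g⁆ = 1
      · exact ha (cen a (Commute.refl a) hab (commutatorElement_eq_one_iff_commute.1 hag))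
      · have hVz : V = ⊥ ⊔ zpowers ⁅a, g⁆ := eq_sup_zpowers hP bot_le
          (by rw [card_bot, one_mul, hj]) (mem_secondZ.1 (hin a).1 g) (by rwa [mem_bot])
        obtain ⟨_, h0, i, hi⟩ := exists_of_mem_sup (hVz.le (mem_secondZ.1 (hin b).1 g))
        rw [mem_bot.1 h0, one_mul] at hi
        have T : Two p (⊤ : Subgroup P) := ⟨fun u _ w _ y _ => omegaZ_commute (mem_secondZ.1 (hin u).1 w) y,
          fun u _ w _ => (mem_secondZ.1 (hin u).1 w).2⟩
        refine hbV ?_
        have hy : b * a ^ (-i) ∈ V := cen _ (hab.symm.mul_left ((Commute.refl a).zpow_left _))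
          ((Commute.refl b).mul_left (hab.zpow_left _)) (commutatorElement_eq_one_iff_commute.1 (by
            rw [T.cl (mem_top _) (mem_top _) (mem_top _), T.zl (mem_top _) (mem_top _), hi, zpow_neg,
              mul_inv_cancel]))
        have := mul_mem (mem_sup_left hy : b * a ^ (-i) ∈ V ⊔ zpowers a)
          (mem_sup_right (zpow_mem (mem_zpowers a) i))
        rwa [mul_assoc, ← zpow_add, neg_add_cancel, zpow_zero, mul_one] at this
    · -- a commuting pair
      have hcl : ∀ y, y ∉ V → ∀ z, ⁅y, z⁆ = 1 → z ∈ V ⊔ zpowers y := fun y hy z hz =>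
        noC y z hy hz hj.ge
      have hsurj : (commHom (hin a).1).range = ⊤ := by
        refine eq_top_of_le_card _ ?_
        rw [← index_ker, ← hCa]
        have h : Nat.card Ca ≤ Nat.card V * p := hVac ▸ card_le_of_le
          (fun g hg => hcl a ha g ((mem_ker_commHom _).1 hg))
        have h1 := Ca.card_mul_index
        rw [hc] at h1
        refine Nat.le_of_mul_le_mul_left (c := Nat.card V * p) ?_ (Nat.mul_pos Nat.card_pos hp.out.pos)
        calc Nat.card V * p * Nat.card V = Nat.card Ca * Ca.index := by rw [h1, hj]; ring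
          _ ≤ Nat.card V * p * Ca.index := Nat.mul_le_mul_right _ h
      obtain ⟨b, -, hb⟩ := SetLike.exists_of_lt (lt_top_iff_ne_top.2 (fun e : V ⊔ zpowers a = ⊤ => by
        rw [e, card_top, hc, hj] at hVac
        exact absurd hVac ((show p ^ 2 * p = p ^ 3 by ring).trans_lt
          ((Nat.pow_lt_pow_right hp.out.one_lt (show 3 < 5 by norm_num)).trans_eq (by ring))).ne'))
      haveI : (V ⊔ zpowers a ⊔ zpowers b).Normal := sup_zpowers_normal fun g =>
        mem_sup_left (mem_secondZ.1 (hin b).1 g)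
      have h3c : Nat.card (V ⊔ zpowers a ⊔ zpowers b : Subgroup P) = Nat.card V * p * p := by
        rw [card_sup_zpowers_eq hP (by rw [(hin b).2]; exact one_mem _) hb, hVac]
      obtain ⟨c, -, hc'⟩ := SetLike.exists_of_lt (lt_top_iff_ne_top.2
        (fun e : V ⊔ zpowers a ⊔ zpowers b = ⊤ => by
          rw [e, card_top, hc, hj] at h3c
          exact absurd h3c ((show p ^ 2 * p * p = p ^ 4 by ring).trans_lt
            ((Nat.pow_lt_pow_right hp.out.one_lt (show 4 < 5 by norm_num)).trans_eq (by ring))).ne'))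
      have htop : (⊤ : Subgroup P) = V ⊔ zpowers a ⊔ zpowers b ⊔ zpowers c :=
        eq_sup_zpowers hP le_top (by rw [card_top, hc, h3c]; exact le_of_eq (by ring)) (mem_top c) hc'
      have T : Two p (⊤ : Subgroup P) := ⟨fun u _ w _ y _ => omegaZ_commute (mem_secondZ.1 (hin u).1 w) y,
        fun u _ w _ => (mem_secondZ.1 (hin u).1 w).2⟩
      obtain ⟨i, k, hik⟩ : ∃ i k : ℤ, ⁅b, c⁆ = ⁅a, b⁆ ^ i * ⁅a, c⁆ ^ k := by
        obtain ⟨q, hq⟩ := MonoidHom.range_eq_top.1 hsurj ⟨⁅b, c⁆, mem_secondZ.1 (hin b).1 c⟩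
        have hq' : ⁅a, q⁆ = ⁅b, c⁆ := congrArg Subtype.val hq
        obtain ⟨u, hu, k, rfl⟩ := exists_of_mem_sup (htop.le (mem_top q))
        obtain ⟨w, hw, i, rfl⟩ := exists_of_mem_sup hu
        refine ⟨i, k, ?_⟩
        rw [← hq', T.cr (mem_top _) (mem_top _) (mem_top _), T.cr (mem_top _) (mem_top _) (mem_top _),
          T.zr (mem_top _) (mem_top _), T.zr (mem_top _) (mem_top _),
          show ⁅a, w⁆ = 1 from (mem_ker_commHom _).1 (haC hw), one_mul]
      set y := b * a ^ (-k) with hy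
      set z := c * a ^ i with hz
      have hyz : ⁅y, z⁆ = 1 := by
        rw [hy, hz, T.cl (mem_top _) (mem_top _) (mem_top _), T.cr (mem_top _) (mem_top _) (mem_top _),
          T.cr (mem_top _) (mem_top _) (mem_top _), T.zl (mem_top _) (mem_top _),
          T.zr (mem_top _) (mem_top _), T.zl (mem_top _) (mem_top _), T.zr (mem_top _) (mem_top _),
          commutatorElement_self, one_zpow, one_zpow, mul_one, hik, ← commutatorElement_inv a b,
          inv_zpow, zpow_neg]
        have hcm : Commute (⁅a, b⁆ ^ i) (⁅a, c⁆ ^ k) :=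
          ((omegaZ_commute (mem_secondZ.1 (hin a).1 b) _).zpow_left i)
        rw [hcm.eq, mul_inv_cancel_right, mul_inv_cancel]
      have hyV : y ∉ V := fun h => hb (by
        have := mul_mem (mem_sup_left h : y ∈ V ⊔ zpowers a) (mem_sup_right (zpow_mem (mem_zpowers a) k))
        rwa [hy, mul_assoc, ← zpow_add, neg_add_cancel, zpow_zero, mul_one] at this)
      have hz' := hcl y hyV z hyz
      refine hc' ?_
      have hya : y ∈ V ⊔ zpowers a ⊔ zpowers b := mul_mem (mem_sup_right (mem_zpowers b))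
        (mem_sup_left (mem_sup_right (zpow_mem (mem_zpowers a) _)))
      have hzm : z ∈ V ⊔ zpowers a ⊔ zpowers b :=
        (sup_le (le_sup_left.trans le_sup_left) (zpowers_le.2 hya)) hz'
      have := mul_mem hzm (inv_mem (mem_sup_left (mem_sup_right (zpow_mem (mem_zpowers a) i)) :
        a ^ i ∈ V ⊔ zpowers a ⊔ zpowers b))
      rwa [hz, mul_inv_cancel_right] at this

end Cfsg.Agent.Lib.RankThreePearl69
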