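import Cfsg.Agent.Lib.RankThreePearl69.Common
import Cfsg.Agent.Lib.RankThreePearl69.Block
import Cfsg.Agent.Lib.RankThreePearl69.Irr
import Cfsg.Agent.Lib.RankThreePearl69.XL
import Cfsg.Agent.Lib.Core.Nilpotent

/-!
Not all essential subgroups have a block of size three.
-/

set_option autoImplicit false
set_option linter.unusedSectionVars false

namespace Cfsg.Agent.Lib.RankThreePearl69

open Cfsg Cfsg.FusionSystem Cfsg.Agent.Lib.Fusion Cfsg.Agent.Lib.Fusion87 Cfsg.Agent.Lib.FusionOrderFive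
  Cfsg.Agent.Lib.RankThreeEss69
open scoped commutatorElement

universe u

variable {Ω : Type u} [Group Ω] {S : Subgroup Ω} [Finite S] {F : FusionSystem S} {p : ℕ}
  [hp : Fact p.Prime]

theorem fusion_irr (hS : IsPGroup p S) (hF : F.IsSaturated p) (hp2 : p ≠ 2) {E : Subgroup Ω}
    (hE : F.IsEssential p E) (hrk : (frattini E).index = p ^ 3) (hN : normalizerIn S E = S)
    (hreg : Regular p (E.subgroupOf S)) (K : Subgroup E) (hK : frattini E ≤ K)
    (hinv : ∀ α ∈ F.autGroup E, ∀ k ∈ K, α k ∈ K) : K = frattini E ∨ K = ⊤ := by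
  by_contra hcon
  push Not at hcon
  have hES := hE.1.1
  haveI := finite_of_le hES
  have iE := idx_sub hS hF hE hp2 hrk hN
  obtain ⟨x, u, hu, hd⟩ := hreg
  obtain ⟨-, -, hm⟩ := block_facts hS iE hu hd
  set ι := Subgroup.inclusion hES with hι
  have hPp := hS.to_le hES
  letI := quotCommGroup hPp
  have hexp := pow_quot hPp
  have hmem : ∀ w : E, w ∈ frattini E ↔ ι w ∈ fr p (E.subgroupOf S) := fun w => (mem_fr_sub hS hES w).symm
  set eE : E := ⟨(u : Ω), hu⟩
  set cE : E := ⟨((⁅x, u⁆ : S) : Ω), iE.comm_mem hS _ _⟩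
  set dE : E := ⟨((⁅x, ⁅x, u⁆⁆ : S) : Ω), iE.comm_mem hS _ _⟩
  have hιe : ι eE = u := Subtype.ext rfl
  have hιc : ι cE = ⁅x, u⁆ := Subtype.ext rfl
  have hιd : ι dE = ⁅x, ⁅x, u⁆⁆ := Subtype.ext rfl
  set xn := conj_mem_normalizer hN x
  set a := conjAut E (x : Ω) xn
  have haS : a ∈ autInducedBy S E := mem_autInducedBy_normalizer.2 ⟨x, xn, x.2, rfl⟩
  have haι : ∀ w : E, ι (a w) = x * ι w * x⁻¹ := fun w => Subtype.ext rfl
  have mk_eq : ∀ v w : E, (ι v)⁻¹ * ι w ∈ fr p (E.subgroupOf S) → (v : E ⧸ frattini E) = w :=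
    fun v w h => QuotientGroup.eq.2 ((hmem _).2 (by rwa [map_mul, map_inv]))
  haveI := iE.normal
  have h1 : quotHom E a (eE : E ⧸ frattini E) = (eE : E ⧸ frattini E) * cE := by
    rw [quotHom_mk, mul_comm, ← QuotientGroup.mk_mul]
    refine mk_eq _ _ ?_
    rw [haι, map_mul, hιe, hιc, conj_eq_comm_mul, inv_mul_cancel]
    exact one_mem _
  have h2 : quotHom E a (cE : E ⧸ frattini E) = (cE : E ⧸ frattini E) * dE := by
    rw [quotHom_mk, mul_comm, ← QuotientGroup.mk_mul]
    refine mk_eq _ _ ?_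
    rw [haι, map_mul, hιc, hιd, conj_eq_comm_mul, inv_mul_cancel]
    exact one_mem _
  have h3 : quotHom E a (dE : E ⧸ frattini E) = dE := by
    rw [quotHom_mk]
    refine (mk_eq _ _ ?_).symm
    rw [haι, hιd, conj_eq_comm_mul]
    have h := Subgroup.Normal.conj_mem' (inferInstance : (fr p (E.subgroupOf S)).Normal) _
      (by rw [← commutatorElement_inv]; exact inv_mem (hm x) :
        ⁅x, ⁅x, ⁅x, u⁆⁆⁆ ∈ fr p (E.subgroupOf S)) ⁅x, ⁅x, u⁆⁆
    simpa [mul_assoc] using h
  have h30 : (dE : E ⧸ frattini E) ≠ 1 := fun h => hd (by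
    rw [← hιd]; exact (hmem _).1 ((QuotientGroup.eq_one_iff _).1 h))
  set π := QuotientGroup.mk' (frattini E)
  have hW0 : K.map π ≠ ⊥ := fun h => hcon.1 (le_antisymm (by
    rwa [Subgroup.map_eq_bot_iff, QuotientGroup.ker_mk'] at h) hK)
  have hW1 : K.map π ≠ ⊤ := fun h => hcon.2 ((Subgroup.eq_top_iff' _).2 fun w => by
    obtain ⟨k, hk, hkw⟩ := h.ge (Subgroup.mem_top (π w))
    have := K.mul_mem hk (hK (QuotientGroup.eq.1 hkw))
    rwa [mul_inv_cancel_left] at this)
  obtain ⟨H, hH⟩ := exists_stronglyP_quot hS hF hE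
  refine false_of_invariant_sub hp2 (by rw [← Subgroup.index_eq_card, hrk]) hexp hH
    (fun c hc b hb => mem_zpowers_of_commute hS hF hE hp2 (Or.inr hrk) hc hb)
    (Subgroup.mem_map_of_mem _ (autInducedBy_le_autGroup hES haS)) h1 h2 h3 h30 hW0 hW1 ?_
  rintro _ ⟨α, hα, rfl⟩ _ ⟨k, hk, rfl⟩
  exact ⟨α k, hinv α hα k hk, (quotHom_mk α k).symm⟩

theorem omegaZ_ne_bot {G : Type*} [Group G] [Finite G] [Nontrivial G] (hG : IsPGroup p G) :
    omegaZ p G ≠ ⊥ := by
  haveI := hG.center_nontrivial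
  obtain ⟨n, hn⟩ := IsPGroup.iff_card.1 (hG.to_subgroup (Subgroup.center G))
  have hn0 : n ≠ 0 := fun h0 => by
    have h := Finite.one_lt_card (α := Subgroup.center G)
    rw [hn, h0, pow_zero] at h
    exact lt_irrefl 1 h
  obtain ⟨z, hz⟩ := exists_prime_orderOf_dvd_card' (G := Subgroup.center G) p
    (by rw [hn]; exact dvd_pow_self p hn0)
  intro hb
  have h : (z : G) ∈ omegaZ p G := ⟨z.2, by
    rw [← Subgroup.orderOf_coe] at hz
    rw [← hz]; exact pow_orderOf_eq_one _⟩
  rw [hb, Subgroup.mem_bot] at h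
  rw [← Subgroup.orderOf_coe, h, orderOf_one] at hz
  exact hp.out.ne_one hz.symm

/-- Blocks of size three in every essential subgroup give a non-trivial core. -/
theorem false_of_all_regular (h5 : 5 ≤ p) (hS : IsPGroup p S) (hsr : Cfsg.SectionalPRankLE p 3 S)
    (hF : F.IsSaturated p) (hO : F.core = ⊥)
    (hall : ∀ E, F.IsEssential p E → normalizerIn S E = S ∧ (frattini E).index = p ^ 3)
    (hregs : ∀ E, F.IsEssential p E → Regular p (E.subgroupOf S)) {E0 : Subgroup Ω}
    (hE0 : F.IsEssential p E0) : False := by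
  classical
  have hp2 : p ≠ 2 := by omega
  haveI : Nontrivial S := by
    by_contra hnt
    rw [not_nontrivial_iff_subsingleton] at hnt
    exact not_isEssential_self hS hF ((show E0 = S from le_antisymm hE0.1.1 fun g hg => by
      have : (⟨g, hg⟩ : S) = 1 := Subsingleton.elim _ _
      rw [show g = 1 from congrArg Subtype.val this]; exact one_mem _) ▸ hE0)
  haveI := hS.isNilpotent
  set Z0 := omegaZ p S with hZ0
  have hZ0ne : Z0 ≠ ⊥ := omegaZ_ne_bot hS
  have hZle : ∀ E, F.IsEssential p E → Z0 ≤ E.subgroupOf S := fun E hE z hz =>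
    centralizerIn_le_of_isCentric hE.1 ⟨z.2, fun y hy =>
      congrArg Subtype.val (omegaZ_commute hz ⟨y, hE.1.1 hy⟩).eq.symm⟩
  -- the images of the centres of exponent `p` of the essential subgroups
  by_cases hcen : ∀ E, F.IsEssential p E → ∀ hES : E ≤ S,
      (omegaZ p E).map (Subgroup.inclusion hES) ≤ Subgroup.center S
  · refine false_of_invariant_core hS hF hO hZ0ne (fun γ _ x hx => omegaZ_aut γ hx) fun E hE => ?_
    refine ⟨hZle E hE, fun hES α _ x hx => ?_⟩
    have hxE : x ∈ omegaZ p E := ⟨Subgroup.mem_center_iff.2 fun w => Subgroup.inclusion_injective hES (by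
        rw [map_mul, map_mul]; exact ((omegaZ_commute hx _).eq).symm),
      Subgroup.inclusion_injective hES (by rw [map_pow, map_one]; exact hx.2)⟩
    have hαx := omegaZ_aut α hxE
    exact ⟨hcen E hE hES (Subgroup.mem_map_of_mem _ hαx), by rw [← map_pow, hαx.2, map_one]⟩
  push Not at hcen
  obtain ⟨A, hA, hAS, hAV⟩ := hcen
  set V := (omegaZ p A).map (Subgroup.inclusion hAS) with hV
  haveI : V.Normal := ⟨by
    rintro _ ⟨w, hw, rfl⟩ g
    refine ⟨conjAut A (g : Ω) (conj_mem_normalizer (hall A hA).1 g) w, omegaZ_aut _ hw, Subtype.ext rfl⟩⟩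
  set π := QuotientGroup.mk' (Subgroup.center S)
  have hVπ : V.map π ≠ ⊥ := fun h => hAV (by
    rwa [Subgroup.map_eq_bot_iff, QuotientGroup.ker_mk'] at h)
  haveI : (V.map π).Normal := Subgroup.Normal.map inferInstance _ (QuotientGroup.mk'_surjective _)
  obtain ⟨q, hq, hq1⟩ := ((V.map π ⊓ Subgroup.center (S ⧸ Subgroup.center S)).bot_or_exists_ne_one).resolve_left
    (Nilp.inf_center_ne_bot_of_normal hVπ)
  obtain ⟨⟨x, hxV, rfl⟩, hqc⟩ := hq
  have hxZ : x ∉ Subgroup.center S := fun h => hq1 (mk'_eq_one.2 h)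
  have hxp : x ^ p = 1 := by
    obtain ⟨w, hw, rfl⟩ := hxV
    rw [← map_pow, hw.2, map_one]
  have hxpow : ∀ (i : ℤ) (g : S), ⁅x ^ i, g⁆ ∈ Subgroup.center S := fun i g => by
    rw [comm_mem_iff, map_zpow]
    exact (Subgroup.mem_center_iff.1 hqc _).symm |> fun h => (Commute.zpow_left h i)
  have hxg : ∀ g : S, ⁅x, g⁆ ∈ Z0 := fun g => by
    refine ⟨by simpa using hxpow 1 g, ?_⟩
    have h : ⁅x, g⁆ ∈ V := by
      rw [show ⁅x, g⁆ = x * (g * x⁻¹ * g⁻¹) by rw [commutatorElement_def]; group]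
      exact V.mul_mem hxV (Subgroup.Normal.conj_mem inferInstance _ (V.inv_mem hxV) g)
    obtain ⟨w, hw, hwe⟩ := h
    rw [← hwe, ← map_pow, hw.2, map_one]
  -- every essential subgroup is the centraliser of `x`
  have hcent : ∀ B, F.IsEssential p B → B.subgroupOf S = Subgroup.centralizer ({x} : Set S) := by
    intro B hB
    obtain ⟨hN, hrk⟩ := hall B hB
    have iB := idx_sub hS hF hB hp2 hrk hN
    haveI := iB.normal
    have hBS := hB.1.1
    haveI := finite_of_le hBS
    have hxB : x ∈ B.subgroupOf S := by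
      by_contra hxB
      obtain ⟨x1, u, hu, hd⟩ := hregs B hB
      obtain ⟨b, hb, i, hx1⟩ := exists_of_mem_sup ((iB.top_eq hS hxB).le (Subgroup.mem_top x1))
      refine hd ?_
      set c := ⁅x ^ i, u⁆
      have hc : ∀ g, Commute c g := fun g => (Subgroup.mem_center_iff.1 (hxpow i u) g).symm
      have e1 : ⁅x1, u⁆ = c * ⁅b, u⁆ := by
        rw [hx1, show ⁅b * x ^ i, u⁆ = b * c * b⁻¹ * ⁅b, u⁆ by simp only [c, commutatorElement_def]; group,
          (hc b).eq.symm, mul_inv_cancel_right]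
      have hf : ⁅b, u⁆ ∈ fr p (B.subgroupOf S) := comm_mem_fr hb hu
      rw [e1, show ⁅x1, c * ⁅b, u⁆⁆ = ⁅x1, c⁆ * (c * ⁅x1, ⁅b, u⁆⁆ * c⁻¹) by
          simp only [commutatorElement_def]; group,
        commutatorElement_eq_one_iff_commute.2 (hc x1).symm, one_mul]
      refine Subgroup.Normal.conj_mem inferInstance _ ?_ c
      rw [commutatorElement_def]
      exact mul_mem (Subgroup.Normal.conj_mem inferInstance _ hf x1) (inv_mem hf)
    set xE : B := ⟨(x : Ω), hxB⟩
    have hιx : Subgroup.inclusion hBS xE = x := Subtype.ext rfl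
    have hxc : xE ∈ Subgroup.center B := by
      refine mem_center_of_small (hS.to_le hBS) hp2 (rank_le_of_le hsr hBS) ?_ ?_ ?_ fun w => ?_
      · rw [fr_top_eq_frattini (hS.to_le hBS), ← (frattini B).card_mul_index, hrk]
      · intro K hK hinv
        rw [fr_top_eq_frattini (hS.to_le hBS)] at hK ⊢
        exact fusion_irr hS hF hp2 hB hrk hN (hregs B hB) K hK fun α _ => hinv α
      · exact Subgroup.inclusion_injective hBS (by rw [map_pow, map_one, hιx, hxp])
      · refine ⟨Subgroup.mem_center_iff.2 fun v => Subgroup.inclusion_injective hBS ?_,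
          Subgroup.inclusion_injective hBS ?_⟩
        · rw [map_mul, map_mul, map_commutatorElement, hιx]
          exact (omegaZ_commute (hxg _) _).eq.symm
        · rw [map_pow, map_commutatorElement, hιx, map_one]
          exact (hxg _).2
    have hle : B.subgroupOf S ≤ Subgroup.centralizer ({x} : Set S) := fun g hg => by
      rw [Subgroup.mem_centralizer_singleton_iff]
      have h := congrArg (Subgroup.inclusion hBS) (Subgroup.mem_center_iff.1 hxc ⟨(g : Ω), hg⟩)
      rw [map_mul, map_mul, hιx] at h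
      exact h
    refine le_antisymm hle fun g hg => ?_
    by_contra hgB
    refine hxZ (Subgroup.mem_center_iff.2 fun y => ?_)
    have hy := ((iB.top_eq hS hgB).le.trans (sup_le hle (Subgroup.zpowers_le.2 hg))) (Subgroup.mem_top y)
    exact Subgroup.mem_centralizer_singleton_iff.1 hy
  set E' := E0.subgroupOf S with hE'
  refine false_of_invariant_core hS hF hO (K := E') (fun h => hZ0ne (le_bot_iff.1 (h ▸ hZle E0 hE0)))
    (fun γ hγ y hy => ?_) fun B hB => ?_
  · have h := hcent _ (isEssential_image hE0 (hall E0 hE0).1 hγ)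
    rw [← hcent E0 hE0, show ((E'.map γ.toMonoidHom).map S.subtype).subgroupOf S = E'.map γ.toMonoidHom from
      Subgroup.comap_map_eq_self_of_injective S.subtype_injective _] at h
    exact h.le (Subgroup.mem_map_of_mem _ hy)
  · rw [hE', hcent E0 hE0, ← hcent B hB]
    exact ⟨le_rfl, fun hES α _ y _ => (α y).2⟩

end Cfsg.Agent.Lib.RankThreePearl69
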