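import Cfsg.Agent.Lib.RankThreePearl69.Common
import Cfsg.Agent.Lib.RankThreeEss69.Torus

/-!
Not all essential subgroups are moved by transvections.
-/

set_option autoImplicit false
set_option linter.unusedSectionVars false

namespace Cfsg.Agent.Lib.RankThreePearl69

open Cfsg Cfsg.FusionSystem Cfsg.Agent.Lib.Fusion Cfsg.Agent.Lib.Fusion87 Cfsg.Agent.Lib.FusionOrderFive
  Cfsg.Agent.Lib.RankThreeEss69
open scoped commutatorElement

universe u

section Plane

variable {p : ℕ} [hp : Fact p.Prime] {V : Type*} [CommGroup V]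

/-- A point fixed by two transvections with different centres is fixed by all the others. -/
theorem fix_of_two_moves (hexp : ∀ v : V, v ^ p = 1) {A : Subgroup (MulAut V)}
    (hA : ∀ a ∈ A, ∀ b ∈ A, a ^ p = 1 → b ^ p = 1 → Commute a b → a ≠ 1 → b ∈ Subgroup.zpowers a)
    {t t' : MulAut V} {z z' : V} (htA : t ∈ A) (ht'A : t' ∈ A) (ht : IsMove t z) (htz : t z = z)
    (ht' : IsMove t' z') (ht'z : t' z' = z') (ht1 : t ≠ 1) (ht'1 : t' ≠ 1) (hzz : t z' ≠ z')
    {l : V} (hl : t l = l) (hl' : t' l = l) {s : MulAut V} (hsA : s ∈ A) {c : V} (hs : IsMove s c)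
    (hsc : s c = c) (hs1 : s ≠ 1) : s l = l := by
  have stab : ∀ (f : MulAut V) (y : V), f y = y → ∀ k : ℤ, (f ^ k) y = y := fun f y hy k =>
    Subgroup.zpow_mem _ (show f ∈ MulAction.stabilizer (MulAut V) y from hy) k
  have key : ∀ (t0 : MulAut V) (u : V), t0 ∈ A → IsMove t0 u → t0 u = u → t0 ≠ 1 → u ≠ 1 →
      t0 l = l → s u = u → s l = l := by
    intro t0 u h0A h0 h0u h01 hu1 h0l hsu
    have huc : u ∈ Subgroup.zpowers c := by
      by_contra hcon
      exact not_fix_of_conj hexp hA hsA h0A hs hsc h0 h0u hs1 h01 hcon hsu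
    obtain ⟨q, hq⟩ := Subgroup.mem_zpowers_iff.1 huc
    have hcu : c ∈ Subgroup.zpowers u := mem_zpowers_of_zpow hexp (i := q)
      (fun h => hu1 (by rw [← hq, zpow_congr hexp c (n := 0) (by rw [h, Int.cast_zero]), zpow_zero]))
      (by rw [hq]; exact Subgroup.mem_zpowers u)
    obtain ⟨k, hk⟩ := Subgroup.mem_zpowers_iff.1 hcu
    have h0c : t0 c = c := by rw [← hk, map_zpow, h0u]
    obtain ⟨j, rfl⟩ := Subgroup.mem_zpowers_iff.1 (hA t0 h0A s hsA (move_pow_prime hexp h0 h0u)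
      (move_pow_prime hexp hs hsc) (commute_of_fix h0 hs h0c hsu) h01)
    exact stab _ _ h0l j
  have hz1 : z ≠ 1 := fun h => ht1 (MulEquiv.ext fun v => by
    obtain ⟨i, hi⟩ := ht v
    rw [hi, h, one_zpow, mul_one]; rfl)
  obtain ⟨a0, ha0⟩ := ht z'
  have ha0' : (a0 : ZMod p) ≠ 0 := fun h => hzz (by
    rw [ha0, zpow_congr hexp z (n := 0) (by rw [h, Int.cast_zero]), zpow_zero, mul_one])
  obtain ⟨i, hi⟩ := hs z
  by_cases hi0 : (i : ZMod p) = 0
  · exact key t z htA ht htz ht1 hz1 hl (by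
      rw [hi, zpow_congr hexp c (n := 0) (by rw [hi0, Int.cast_zero]), zpow_zero, mul_one])
  obtain ⟨j, hj⟩ := hs z'
  obtain ⟨a, ha⟩ := exists_intCast (-((j : ZMod p) / (i : ZMod p)))
  obtain ⟨k, hk⟩ := exists_intCast ((a : ZMod p) / (a0 : ZMod p))
  have hu : (t ^ k) z' = z' * z ^ a := by
    rw [move_zpow hexp htz ha0]
    congr 1
    exact zpow_congr hexp z (by push_cast; rw [hk, div_mul_cancel₀ _ ha0'])
  have hu1 : z' * z ^ a ≠ 1 := fun h => hzz (by
    rw [eq_inv_of_mul_eq_one_left h, map_inv, map_zpow, htz])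
  refine key (t ^ k * t' * (t ^ k)⁻¹) _ (A.mul_mem (A.mul_mem (A.zpow_mem htA k) ht'A)
    (A.inv_mem (A.zpow_mem htA k))) (hu ▸ isMove_conj (t ^ k) ht') (hu ▸ conj_fix (t ^ k) ht'z)
    (fun e => ht'1 (conj_eq_one_iff.1 e)) hu1 ?_ ?_
  · have h2 : ((t ^ k)⁻¹) l = l := by rw [← zpow_neg]; exact stab t l hl (-k)
    rw [MulAut.mul_apply, MulAut.mul_apply, h2, hl', stab t l hl k]
  · rw [map_mul, map_zpow, hj, hi, mul_zpow, ← zpow_mul, mul_mul_mul_comm, ← zpow_add,
      zpow_congr hexp c (m := j + i * a) (n := 0) (by push_cast; rw [ha]; field_simp; ring),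
      zpow_zero, mul_one]

end Plane

section Group

variable {G : Type*} [Group G] {p : ℕ} [hp : Fact p.Prime] [Finite G] (hG : IsPGroup p G)
include hG

/-- Two such subgroups have the same Frattini part. -/
theorem tdata_fr_eq (hp2 : p ≠ 2) (hr : Cfsg.SectionalPRankLE p 3 G) {E A : Subgroup G}
    {τ τ' : MulAut G} {n m n' m' : ℤ} {r e v r' e' v' : G} (T : TData p E τ n m r e v)
    (T' : TData p A τ' n' m' r' e' v') : fr p E = fr p A := by
  by_cases hne : E = A
  · rw [hne]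
  by_contra hfr
  haveI := T.iE.normal
  haveI := T'.iE.normal
  have hv : v ∉ A := fun h => hfr ((T.fr_eq_iff hG hp2 T'.iE hne).2 h).symm
  have hv' : v' ∉ E := fun h => hfr ((T'.fr_eq_iff hG hp2 T.iE (Ne.symm hne)).2 h)
  set K := fr p E ⊓ fr p A with hK
  haveI : K.Normal := by rw [hK]; infer_instance
  have bE := frattini_bound hG T.iE T'.iE hne
  have bA := frattini_bound hG T'.iE T.iE (Ne.symm hne)
  have cE : ∀ f ∈ fr p E, ∀ g, ⁅f, g⁆ ∈ K := fun f hf g =>
    ⟨Subgroup.commutator_le_left _ _ (Subgroup.commutator_mem_commutator hf (Subgroup.mem_top g)),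
      bE (Subgroup.mem_sup_right (Subgroup.commutator_mem_commutator hf (Subgroup.mem_top g)))⟩
  have cA : ∀ f ∈ fr p A, ∀ g, ⁅f, g⁆ ∈ K := fun f hf g =>
    ⟨bA (Subgroup.mem_sup_right (Subgroup.commutator_mem_commutator hf (Subgroup.mem_top g))),
      Subgroup.commutator_le_left _ _ (Subgroup.commutator_mem_commutator hf (Subgroup.mem_top g))⟩
  have pK : ∀ g : G, g ^ p ∈ K := fun g => ⟨T.pow_mem hG hp2 g, T'.pow_mem hG hp2 g⟩
  have vv : ⁅v, v'⁆ ∈ K := ⟨T.v_central hG v', by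
    rw [← commutatorElement_inv]; exact (fr p A).inv_mem (T'.v_central hG v)⟩
  refine false_of_gen hG hr (K := K) (s := (fr p E : Set G) ∪ (fr p A : Set G) ∪ {v, v'}) ?_
    (fun a _ => pK a) ?_
  · rintro a ((ha | ha) | rfl | rfl) b ((hb | hb) | rfl | rfl)
    all_goals first
      | exact cE _ ha _
      | exact cA _ ha _
      | (rw [← commutatorElement_inv]; exact inv_mem (cE _ hb _))
      | (rw [← commutatorElement_inv]; exact inv_mem (cA _ hb _))
      | (rw [commutatorElement_self]; exact one_mem _)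
      | exact vv
      | (rw [← commutatorElement_inv]; exact inv_mem vv)
  · set X := K ⊔ Subgroup.closure ((fr p E : Set G) ∪ (fr p A : Set G) ∪ {v, v'}) with hX
    have hmem : ∀ g ∈ (fr p E : Set G) ∪ (fr p A : Set G) ∪ {v, v'}, g ∈ X := fun g hg =>
      Subgroup.mem_sup_right (Subgroup.subset_closure hg)
    set L := fr p E ⊔ fr p A with hL
    have hcard : Nat.card (fr p E) = Nat.card (fr p A) := by
      refine Nat.eq_of_mul_eq_mul_right (pow_pos hp.out.pos 3) ?_
      rw [← T.iE.card, ← T'.iE.card]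
      exact Nat.eq_of_mul_eq_mul_right hp.out.pos (T.iE.card_top.symm.trans T'.iE.card_top)
    have h1 : Nat.card K * p ≤ Nat.card (fr p E) := card_mul_le' hG (lt_of_le_of_ne inf_le_left
      fun h => hfr (Subgroup.eq_of_le_of_card_ge (h.ge.trans inf_le_right) hcard.ge))
    have h2 : Nat.card (fr p E) * p ≤ Nat.card L := card_mul_le' hG (lt_of_le_of_ne le_sup_left
      fun h => hfr (Subgroup.eq_of_le_of_card_ge (le_sup_right.trans h.ge) hcard.le).symm)
    have hLA : L ≤ A := sup_le ((fr_le_inf hG T.iE T'.iE hne).trans inf_le_right) fr_le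
    have hLE : L ≤ E := sup_le fr_le ((fr_le_inf hG T'.iE T.iE (Ne.symm hne)).trans inf_le_right)
    have h3 : Nat.card L * p ≤ Nat.card (L ⊔ Subgroup.zpowers v : Subgroup G) := card_mul_le' hG
      (lt_of_le_of_ne le_sup_left fun h => hv (hLA (h.ge (Subgroup.mem_sup_right (Subgroup.mem_zpowers v)))))
    have hlt : L ⊔ Subgroup.zpowers v < X := by
      refine lt_of_le_of_ne (sup_le (sup_le (fun g hg => hmem g (Or.inl (Or.inl hg)))
        (fun g hg => hmem g (Or.inl (Or.inr hg)))) (Subgroup.zpowers_le.2 (hmem v (Or.inr (by simp))))) fun h =>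
        hv' ((sup_le hLE (Subgroup.zpowers_le.2 T.vE)) (h.ge (hmem v' (Or.inr (by simp)))))
    refine le_trans ?_ (card_mul_le' hG hlt)
    rw [show Nat.card K * p ^ 4 = Nat.card K * p * p * p * p by ring]
    exact Nat.mul_le_mul_right p ((Nat.mul_le_mul_right p ((Nat.mul_le_mul_right p h1).trans h2)).trans h3)

variable {E : Subgroup G} {τ : MulAut G} {n m : ℤ} {r e v : G} (T : TData p E τ n m r e v)
  (hfr : fr p E = ⊥)
include T hfr

theorem z_commute (g : G) : Commute ⁅r, e⁆ g :=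
  commutatorElement_eq_one_iff_commute.1 (Subgroup.mem_bot.1 (hfr ▸ T.z_central hG g))

theorem v_commute (g : G) : Commute v g :=
  commutatorElement_eq_one_iff_commute.1 (Subgroup.mem_bot.1 (hfr ▸ T.v_central hG g))

theorem E_commute {a b : G} (ha : a ∈ E) (hb : b ∈ E) : Commute a b :=
  commutatorElement_eq_one_iff_commute.1 (Subgroup.mem_bot.1 (hfr ▸ comm_mem_fr ha hb))

theorem E_pow {a : G} (ha : a ∈ E) : a ^ p = 1 := Subgroup.mem_bot.1 (hfr ▸ pow_mem_fr ha)

theorem z_ne : ⁅r, e⁆ ≠ 1 := fun h => by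
  have := (T.coord hG (a := 1) (b := 0) (c := 0) (by simp [h])).1
  rw [Int.cast_one] at this
  exact one_ne_zero this

/-- The fixed points of `r` on `E`. -/
theorem fix_form {x : G} (hx : x ∈ E) (hxr : Commute r x) :
    ∃ a c : ℤ, x = ⁅r, e⁆ ^ a * v ^ c := by
  obtain ⟨f, hf, a, b, c, rfl⟩ := T.exists_coord hG hx
  rw [hfr, Subgroup.mem_bot] at hf
  subst hf
  rw [one_mul] at hxr hx ⊢
  set z := ⁅r, e⁆ with hz
  have hre : r * e * r⁻¹ = z * e := conj_eq_comm_mul
  have h1 : z ^ b = 1 := by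
    have h : r * (z ^ a * e ^ b * v ^ c) * r⁻¹ = z ^ a * e ^ b * v ^ c := by
      rw [hxr.eq, mul_inv_cancel_right]
    rw [show r * (z ^ a * e ^ b * v ^ c) * r⁻¹ =
        (r * z * r⁻¹) ^ a * (r * e * r⁻¹) ^ b * (r * v * r⁻¹) ^ c by rw [conj_zpow, conj_zpow, conj_zpow]; group,
      (z_commute hG T hfr r).symm.eq, mul_inv_cancel_right, (v_commute hG T hfr r).symm.eq,
      mul_inv_cancel_right, hre, (z_commute hG T hfr e).mul_zpow, mul_left_inj, mul_right_inj,
      mul_eq_right] at h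
    exact h
  refine ⟨a, c, ?_⟩
  rw [zpow_congr_mod (E_pow hG T hfr T.eE) (show (b : ZMod p) = ((0 : ℤ) : ZMod p) by
    rw [cast_zero_of_zpow (E_pow hG T hfr (T.z_mem hG)) (z_ne hG T hfr) h1, Int.cast_zero]), zpow_zero,
    mul_one]

/-- The centre. -/
theorem center_form {x : G} (hx : x ∈ Subgroup.center G) : ∃ a c : ℤ, x = ⁅r, e⁆ ^ a * v ^ c := by
  have hc : ∀ g, Commute g x := Subgroup.mem_center_iff.1 hx
  refine fix_form hG T hfr ?_ (hc r)
  by_contra hxE
  haveI := T.iE.normal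
  obtain ⟨u, hu, i, hr⟩ := exists_of_mem_sup ((T.iE.top_eq hG hxE).le (Subgroup.mem_top r))
  refine z_ne hG T hfr (commutatorElement_eq_one_iff_commute.2 ?_)
  rw [hr]
  exact (E_commute hG T hfr hu T.eE).mul_left ((hc e).symm.zpow_left i)

theorem coord_two {a c : ℤ} (h : ⁅r, e⁆ ^ a * v ^ c = 1) : (a : ZMod p) = 0 ∧ (c : ZMod p) = 0 := by
  obtain ⟨ha, -, hc⟩ := T.coord hG (a := a) (b := 0) (c := c) (by
    rw [zpow_zero, mul_one, h]; exact one_mem _)
  exact ⟨ha, hc⟩

theorem tau_z : τ ⁅r, e⁆ = ⁅r, e⁆ ^ n := by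
  have h := T.tz
  rw [hfr, Subgroup.mem_bot, inv_mul_eq_one] at h
  exact h.symm

theorem tau_v : τ v = v := by
  have h := T.tv
  rw [hfr, Subgroup.mem_bot, inv_mul_eq_one] at h
  exact h.symm

end Group

variable {Ω : Type u} [Group Ω] {S : Subgroup Ω} [Finite S] {F : FusionSystem S} {p : ℕ}
  [hp : Fact p.Prime] (hS : IsPGroup p S) (hF : F.IsSaturated p)
include hS hF

theorem exists_tdata_sub {E : Subgroup Ω} (hE : F.IsEssential p E) (h5 : 5 ≤ p)
    (hrk : (frattini E).index = p ^ 3) (hN : normalizerIn S E = S)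
    (hreg : ¬ Regular p (E.subgroupOf S)) : ∃ τ ∈ F.autGroup S, ∃ (n m : ℤ) (r e v : S),
      TData p (E.subgroupOf S) τ n m r e v := by
  have h := exists_tdata hS hF hE h5 hrk
  rw [hN] at h
  exact h hreg

/-- The fixed line of a torus is invariant. -/
theorem line_invariant {E : Subgroup Ω} (hE : F.IsEssential p E) (hp2 : p ≠ 2)
    (hrk : (frattini E).index = p ^ 3) (hN : normalizerIn S E = S) {τ : MulAut S}
    (hτ : τ ∈ F.autGroup S) {n m : ℤ} {r e v : S} (T : TData p (E.subgroupOf S) τ n m r e v)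
    (hfr : fr p (E.subgroupOf S) = ⊥) (hES : E ≤ S) {α : MulAut E} (hα : α ∈ F.autGroup E) {x : E}
    (hx : Subgroup.inclusion hES x ∈ Subgroup.zpowers v) :
    Subgroup.inclusion hES (α x) ∈ Subgroup.zpowers v := by
  haveI := finite_of_le hES
  set ι := Subgroup.inclusion hES with hι
  have hιinj : Function.Injective ι := Subgroup.inclusion_injective hES
  have hPp := hS.to_le hES
  letI := quotCommGroup hPp
  have hexp := pow_quot hPp
  have hfrE : ∀ w : E, w ∈ frattini E → w = 1 := fun w hw => hιinj (by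
    have := (mem_fr_sub hS hES w).2 hw
    rw [hfr, Subgroup.mem_bot] at this
    rw [map_one]; exact this)
  have mk_inj : ∀ {a b : E}, (a : E ⧸ frattini E) = b → a = b := fun {a b} h =>
    inv_mul_eq_one.1 (hfrE _ (QuotientGroup.eq.1 h))
  have hzmem := T.z_mem hS
  set zE : E := ⟨((⁅r, e⁆ : S) : Ω), hzmem⟩
  set eE : E := ⟨(e : Ω), T.eE⟩
  set vE : E := ⟨(v : Ω), T.vE⟩
  have hιz : ι zE = ⁅r, e⁆ := Subtype.ext rfl
  have hιe : ι eE = e := Subtype.ext rfl
  have hιv : ι vE = v := Subtype.ext rfl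
  set rn := conj_mem_normalizer hN r
  set a := conjAut E (r : Ω) rn with ha
  have haS : a ∈ autInducedBy S E := mem_autInducedBy_normalizer.2 ⟨r, rn, r.2, rfl⟩
  have haι : ∀ w : E, ι (a w) = r * ι w * r⁻¹ := fun w => Subtype.ext rfl
  have haz : a zE = zE := hιinj (by
    rw [haι, hιz, (z_commute hS T hfr r).symm.eq, mul_inv_cancel_right])
  have hav : a vE = vE := hιinj (by
    rw [haι, hιv, (v_commute hS T hfr r).symm.eq, mul_inv_cancel_right])
  have hae : a eE = zE * eE := hιinj (by rw [haι, map_mul, hιe, hιz, conj_eq_comm_mul])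
  set t := quotHom E a
  set z : E ⧸ frattini E := (zE : E ⧸ frattini E)
  have htz : t z = z := by rw [quotHom_mk, haz]
  have hz1 : z ≠ 1 := fun h => z_ne hS T hfr (by
    rw [← hιz, mk_inj (h.trans (QuotientGroup.mk_one (frattini E)).symm), map_one])
  have hmove : ∀ w, ∃ i : ℤ, t w = w * z ^ i := by
    intro w
    induction w using QuotientGroup.induction_on with
    | _ w =>
    obtain ⟨f, hf, a', b, c, hw⟩ := T.exists_coord hS (show ι w ∈ E.subgroupOf S from w.2)
    rw [hfr, Subgroup.mem_bot] at hf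
    have hw' : w = zE ^ a' * eE ^ b * vE ^ c := hιinj (by
      rw [hw, hf, one_mul, map_mul, map_mul, map_zpow, map_zpow, map_zpow, hιz, hιe, hιv])
    refine ⟨b, ?_⟩
    rw [quotHom_mk, hw', map_mul, map_mul, map_zpow, map_zpow, map_zpow, haz, hav, hae]
    simp only [QuotientGroup.mk_mul, QuotientGroup.mk_zpow, z]
    rw [mul_zpow]
    simp only [mul_assoc, mul_comm, mul_left_comm]
  have ha1 : t ≠ 1 := fun h => hz1 (by
    have h' : t (eE : E ⧸ frattini E) = (eE : E ⧸ frattini E) := by rw [h]; rfl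
    rw [quotHom_mk, hae, QuotientGroup.mk_mul, mul_eq_right] at h'
    exact h')
  obtain ⟨g, hg, hgz⟩ := exists_moved hS hF hE hp2 (Or.inr hrk) haS ha1 htz hmove
  obtain ⟨hte, _, -, -, -, -, hdec, -⟩ := exists_torus_aut hS hF hE hp2 (Or.inr hrk) haS ha1 htz hmove hg hgz
    (n := 1) (m := 1) (by simp)
  set A := (F.autGroup E).map (quotHom E) with hAdef
  have hA : ∀ a ∈ A, ∀ b ∈ A, a ^ p = 1 → b ^ p = 1 → Commute a b → a ≠ 1 → b ∈ Subgroup.zpowers a :=
    fun a ha b hb => mem_zpowers_of_commute hS hF hE hp2 (Or.inr hrk) ha hb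
  have htA : t ∈ A := Subgroup.mem_map_of_mem _ (autInducedBy_le_autGroup hES haS)
  set g' := quotHom E g with hg'
  have hg'A : g' ∈ A := Subgroup.mem_map_of_mem _ hg
  have ht'1 : g' * t * g'⁻¹ ≠ 1 := fun h => ha1 (conj_eq_one_iff.1 h)
  obtain ⟨w, hw⟩ : ∃ w, w ∉ Subgroup.zpowers z ⊔ Subgroup.zpowers (g' z) := by
    by_contra hall
    push Not at hall
    have htop : Subgroup.zpowers z ⊔ Subgroup.zpowers (g' z) = ⊤ := (Subgroup.eq_top_iff' _).2 hall
    have h := card_gen2_le (p := p) (K := (⊥ : Subgroup (E ⧸ frattini E))) (x := z) (y := g' z)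
      (Subgroup.mem_bot.2 (commutatorElement_eq_one_iff_commute.2 (mul_comm z (g' z))))
      (Subgroup.mem_bot.2 (hexp z)) (Subgroup.mem_bot.2 (hexp _))
    rw [bot_sup_eq, htop, Subgroup.card_top, Subgroup.card_bot, one_mul, ← Subgroup.index_eq_card, hrk] at h
    exact absurd h (_root_.not_le.2 (Nat.pow_lt_pow_right hp.out.one_lt (by norm_num)))
  obtain ⟨i₁, j₁, l, hl, hl', hwl⟩ := hdec w
  rw [map_mul, map_mul, map_inv] at hl'
  have hl1 : l ≠ 1 := fun h => hw (by
    rw [hwl, h, mul_one]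
    exact mul_mem (Subgroup.mem_sup_left (Subgroup.zpow_mem _ (Subgroup.mem_zpowers z) _))
      (Subgroup.mem_sup_right (Subgroup.zpow_mem _ (Subgroup.mem_zpowers _) _)))
  -- the common fixed points of the conjugates of `t`
  let C : Subgroup (E ⧸ frattini E) :=
    { carrier := {w | ∀ h ∈ A, (h * t * h⁻¹) w = w}
      one_mem' := fun h _ => map_one _
      mul_mem' := fun {x y} hx hy h hh => by rw [map_mul, hx h hh, hy h hh]
      inv_mem' := fun {x} hx h hh => by rw [map_inv, hx h hh] }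
  have hCA : ∀ f ∈ A, ∀ w ∈ C, f w ∈ C := fun f hf w hw h hh => by
    have h1 := congrArg f (hw (f⁻¹ * h) (A.mul_mem (A.inv_mem hf) hh))
    simpa [MulAut.mul_apply] using h1
  have hlC : l ∈ C := fun h hh => fix_of_two_moves hexp hA htA
    (A.mul_mem (A.mul_mem hg'A htA) (A.inv_mem hg'A)) hmove htz (isMove_conj g' hmove) (conj_fix g' htz)
    ha1 ht'1 hte hl hl' (A.mul_mem (A.mul_mem hh htA) (A.inv_mem hh)) (isMove_conj h hmove)
    (conj_fix h htz) (fun e => ha1 (conj_eq_one_iff.1 e))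
  have hzC : ∀ k : ℤ, z ^ k ∈ C → (k : ZMod p) = 0 := by
    intro k hk
    by_contra hk0
    have hzg : z ∉ Subgroup.zpowers (g' z) := fun hc => by
      obtain ⟨j, hj⟩ := Subgroup.mem_zpowers_iff.1 hc
      refine hgz (mem_zpowers_of_zpow hexp (i := j) (fun h0 => hz1 ?_) (by
        rw [hj]; exact Subgroup.mem_zpowers z))
      rw [← hj, FusionOrderFive.zpow_congr hexp (g' z) (n := 0) (by rw [h0, Int.cast_zero]), zpow_zero]
    exact not_fix_of_conj hexp hA (A.mul_mem (A.mul_mem hg'A htA) (A.inv_mem hg'A)) htA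
      (isMove_conj g' hmove) (conj_fix g' htz) hmove htz ht'1 ha1 hzg
      (mem_zpowers_of_zpow hexp hk0 hk g' hg'A)
  -- the torus on `E`
  obtain ⟨β, hβ, hβx⟩ := exists_aut_of_hom (restrict_mem (autGroup_hom_mem le_rfl hτ) hES) fun w => by
    show ((τ (ι w) : S) : Ω) ∈ E
    exact T.tE.le (Subgroup.mem_map_of_mem τ.toMonoidHom (show ι w ∈ E.subgroupOf S from w.2))
  have hβι : ∀ w : E, ι (β w) = τ (ι w) := fun w => Subtype.ext (hβx w)
  have hβz : β zE = zE ^ n := hιinj (by rw [hβι, hιz, tau_z hS T hfr, map_zpow, hιz])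
  have hβv : β vE = vE := hιinj (by rw [hβι, hιv, tau_v hS T hfr])
  set vq : E ⧸ frattini E := (vE : E ⧸ frattini E)
  have hCv : ∀ w ∈ C, w ∈ Subgroup.zpowers vq := by
    intro w hwC
    have hwt : t w = w := by simpa using hwC 1 A.one_mem
    obtain ⟨wE, rfl⟩ := QuotientGroup.mk_surjective w
    rw [quotHom_mk] at hwt
    obtain ⟨a', c, hac⟩ := fix_form hS T hfr (show ι wE ∈ E.subgroupOf S from wE.2) (by
      have h := congrArg ι (mk_inj hwt)
      rw [haι, mul_inv_eq_iff_eq_mul] at h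
      exact h)
    have hwE : wE = zE ^ a' * vE ^ c := hιinj (by rw [hac, map_mul, map_zpow, map_zpow, hιz, hιv])
    have hb := hCA _ (Subgroup.mem_map_of_mem _ hβ) _ hwC
    rw [quotHom_mk, hwE, map_mul, map_zpow, map_zpow, hβz, hβv, QuotientGroup.mk_mul,
      QuotientGroup.mk_zpow, QuotientGroup.mk_zpow, QuotientGroup.mk_zpow, ← zpow_mul] at hb
    rw [hwE, QuotientGroup.mk_mul, QuotientGroup.mk_zpow, QuotientGroup.mk_zpow] at hwC ⊢
    have h := C.mul_mem hb (C.inv_mem hwC)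
    rw [mul_inv, mul_mul_mul_comm, mul_inv_cancel, mul_one, ← zpow_sub] at h
    have h0 := hzC _ h
    push_cast at h0
    have ha0 : (a' : ZMod p) = 0 :=
      (mul_eq_zero.1 (show ((n : ZMod p) - 1) * a' = 0 by linear_combination h0)).resolve_left
        (sub_ne_zero.2 T.n1)
    rw [FusionOrderFive.zpow_congr hexp z (n := 0) (by rw [ha0, Int.cast_zero]), zpow_zero, one_mul]
    exact Subgroup.zpow_mem _ (Subgroup.mem_zpowers _) c
  have hvC : vq ∈ C := by
    obtain ⟨k, hk⟩ := Subgroup.mem_zpowers_iff.1 (hCv l hlC)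
    exact mem_zpowers_of_zpow hexp (i := k) (fun h0 => hl1 (by
      rw [← hk, FusionOrderFive.zpow_congr hexp vq (n := 0) (by rw [h0, Int.cast_zero]), zpow_zero]))
      (by rw [hk]; exact hlC)
  obtain ⟨k, hk⟩ := Subgroup.mem_zpowers_iff.1 hx
  have hxv : x = vE ^ k := hιinj (by rw [map_zpow, hιv, hk])
  obtain ⟨j, hj⟩ := Subgroup.mem_zpowers_iff.1 (hCv _ (hCA _ (Subgroup.mem_map_of_mem _ hα) _ (C.zpow_mem hvC k)))
  refine Subgroup.mem_zpowers_iff.2 ⟨j, ?_⟩
  have hj' : vE ^ j = α x := mk_inj (by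
    rw [QuotientGroup.mk_zpow, hj, hxv, ← quotHom_mk, QuotientGroup.mk_zpow])
  rw [← hj', map_zpow, hιv]

/-- An automorphism of `S` does not shear the centre. -/
theorem eq_one_of_shear {κ : MulAut S} (hκ : κ ∈ F.autGroup S) {w d : S}
    (hw : w ∈ Subgroup.center S) (hd : κ d = d) (hdp : d ^ p = 1) (h : κ w = w * d) : d = 1 := by
  haveI := finite_autGroup (F := F) (le_refl S)
  have hfn : F.IsFullyNormalized S := ⟨le_rfl, fun Q _ => by
    rw [show normalizerIn S S = S from le_antisymm inf_le_left (le_inf le_rfl Subgroup.le_normalizer)]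
    exact Subgroup.card_le_of_le inf_le_left⟩
  obtain ⟨-, R, hR⟩ := isFullyAutomized_of_isFullyNormalized hS hF hfn
  rw [← inn_eq_autInducedBy] at hR
  haveI : (R : Subgroup (F.autGroup S)).Normal := hR ▸ inn_normal_subgroupOf F S
  set N := (R : Subgroup (F.autGroup S)).index
  have hpow : ∀ k : ℕ, (κ ^ k) w = w * d ^ k := by
    intro k
    induction k with
    | zero => simp
    | succ k ih => rw [pow_succ', MulAut.mul_apply, ih, map_mul, map_pow, hd, h, mul_assoc, pow_succ']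
  have hmem : (⟨κ, hκ⟩ : F.autGroup S) ^ N ∈ (R : Subgroup (F.autGroup S)) := Subgroup.pow_index_mem _ _
  rw [hR, Subgroup.mem_subgroupOf, SubgroupClass.coe_pow] at hmem
  obtain ⟨g, hg⟩ := hmem
  have h2 : (κ ^ N) w = w := by
    rw [show κ ^ N = MulAut.conj g from hg.symm, MulAut.conj_apply, Subgroup.mem_center_iff.1 hw g,
      mul_inv_cancel_right]
  rw [hpow, mul_eq_left] at h2
  have hcop : Nat.Coprime p N := hp.out.coprime_iff_not_dvd.2 R.not_dvd_index
  rw [← pow_one d, ← hcop.gcd_eq_one]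
  exact pow_gcd_eq_one.2 ⟨hdp, h2⟩

/-- Transvections in every essential subgroup give a non-trivial core. -/
theorem false_of_all_transvection (h5 : 5 ≤ p) (hsr : Cfsg.SectionalPRankLE p 3 S)
    (hO : F.core = ⊥)
    (hall : ∀ E, F.IsEssential p E → normalizerIn S E = S ∧ (frattini E).index = p ^ 3)
    (hnreg : ∀ E, F.IsEssential p E → ¬ Regular p (E.subgroupOf S)) {E0 : Subgroup Ω}
    (hE0 : F.IsEssential p E0) : False := by
  have hp2 : p ≠ 2 := by omega
  have hT := fun E (hE : F.IsEssential p E) =>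
    exists_tdata_sub hS hF hE h5 (hall E hE).2 (hall E hE).1 (hnreg E hE)
  obtain ⟨τ, hτ, n, m, r, e, v, T⟩ := hT E0 hE0
  have heq : ∀ E, F.IsEssential p E → fr p (E.subgroupOf S) = fr p (E0.subgroupOf S) := fun E hE => by
    obtain ⟨τ', -, n', m', r', e', v', T'⟩ := hT E hE
    exact tdata_fr_eq hS hp2 hsr T' T
  have hfr0 : fr p (E0.subgroupOf S) = ⊥ := by
    by_contra hne
    refine false_of_invariant_core hS hF hO hne (fun γ hγ x hx => ?_) fun E hE => ?_
    · have h := heq _ (isEssential_image hE0 (hall E0 hE0).1 hγ)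
      rw [show (((E0.subgroupOf S).map γ.toMonoidHom).map S.subtype).subgroupOf S = (E0.subgroupOf S).map γ.toMonoidHom
        from Subgroup.comap_map_eq_self_of_injective S.subtype_injective _, ← map_fr] at h
      exact h.le (Subgroup.mem_map_of_mem _ hx)
    · rw [← heq E hE]
      exact ⟨fr_le, fun hES α _ x hx => fr_inv hES α x hx⟩
  set z := ⁅r, e⁆ with hz
  have hzc : z ∈ Subgroup.center S := Subgroup.mem_center_iff.2 fun g => (z_commute hS T hfr0 g).eq.symm
  have hvc : v ∈ Subgroup.center S := Subgroup.mem_center_iff.2 fun g => (v_commute hS T hfr0 g).eq.symm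
  have hzp : z ^ p = 1 := E_pow hS T hfr0 (T.z_mem hS)
  have hfrtop : fr p (⊤ : Subgroup S) = Subgroup.zpowers z := by
    rw [T.fr_top hS hp2, hfr0, bot_sup_eq]
  have hzline : ∀ (σ : MulAut S), ∀ y ∈ Subgroup.zpowers z, σ y ∈ Subgroup.zpowers z := fun σ y hy => by
    have h := Subgroup.mem_map_of_mem σ.toMonoidHom (hfrtop.ge hy)
    rw [map_fr, Subgroup.map_top_of_surjective _ σ.surjective, hfrtop] at h
    exact h
  have hinv : ∀ σ ∈ F.autGroup S, σ v ∈ Subgroup.zpowers v := by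
    intro σ hσ
    have hσc : σ v ∈ Subgroup.center S := Subgroup.mem_center_iff.2 fun g => by
      obtain ⟨g, rfl⟩ := σ.surjective g
      rw [← map_mul, ← map_mul, Subgroup.mem_center_iff.1 hvc g]
    obtain ⟨b, c, hbc⟩ := center_form hS T hfr0 hσc
    have hτv : τ⁻¹ v = v := τ.injective (by rw [MulAut.apply_inv_self, tau_v hS T hfr0])
    have hcomm : ∀ y ∈ Subgroup.zpowers z, τ (σ y) = σ (τ y) := by
      intro y hy
      obtain ⟨k, rfl⟩ := Subgroup.mem_zpowers_iff.1 hy
      obtain ⟨a, ha⟩ := Subgroup.mem_zpowers_iff.1 (hzline σ z (Subgroup.mem_zpowers z))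
      rw [map_zpow σ, ← ha, map_zpow τ, map_zpow τ, map_zpow τ, tau_z hS T hfr0, map_zpow σ,
        map_zpow σ, ← ha, ← zpow_mul z n, ← zpow_mul z a n, mul_comm]
    set κ := τ * σ * τ⁻¹ * σ⁻¹ with hκ
    have hd : κ (z ^ ((n - 1) * b)) = z ^ ((n - 1) * b) := by
      set d := z ^ ((n - 1) * b)
      have hy := hzline τ⁻¹ _ (hzline σ⁻¹ d (Subgroup.zpow_mem _ (Subgroup.mem_zpowers z) _))
      simp only [hκ, MulAut.mul_apply]
      rw [hcomm _ hy, MulAut.apply_inv_self, MulAut.apply_inv_self]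
    have hw : κ (σ v) = σ v * z ^ ((n - 1) * b) := by
      simp only [hκ, MulAut.mul_apply]
      rw [MulAut.inv_apply_self, hτv, hbc, ← hz, map_mul, map_zpow, map_zpow, tau_v hS T hfr0,
        tau_z hS T hfr0, ← zpow_mul, mul_assoc, ((v_commute hS T hfr0 _).zpow_left c).eq, ← mul_assoc,
        ← zpow_add]
      congr 2
      ring
    have hd1 := eq_one_of_shear hS hF (mul_mem (mul_mem (mul_mem hτ hσ) (inv_mem hτ)) (inv_mem hσ))
      hσc hd (by rw [← zpow_natCast, ← zpow_mul, mul_comm, zpow_mul, zpow_natCast, hzp, one_zpow]) hw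
    have h0 := cast_zero_of_zpow hzp (z_ne hS T hfr0) hd1
    push_cast at h0
    have hb : (b : ZMod p) = 0 := (mul_eq_zero.1 h0).resolve_left (sub_ne_zero.2 T.n1)
    rw [hbc, ← hz, zpow_congr_mod hzp (show (b : ZMod p) = ((0 : ℤ) : ZMod p) by rw [hb, Int.cast_zero]),
      zpow_zero, one_mul]
    exact Subgroup.zpow_mem _ (Subgroup.mem_zpowers v) c
  have hv1 : v ≠ 1 := fun h => T.v_notMem hS (h ▸ one_mem _)
  refine false_of_invariant_core hS hF hO (K := Subgroup.zpowers v) (by simpa using hv1)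
    (fun σ hσ y hy => ?_) fun E hE => ?_
  · obtain ⟨k, rfl⟩ := Subgroup.mem_zpowers_iff.1 hy
    rw [map_zpow]
    exact Subgroup.zpow_mem _ (hinv σ hσ) k
  · obtain ⟨τ', hτ', n', m', r', e', v', T'⟩ := hT E hE
    have hfr := (heq E hE).trans hfr0
    obtain ⟨a, c, hac⟩ := center_form hS T' hfr hvc
    obtain ⟨q, hq⟩ := Subgroup.mem_zpowers_iff.1 (hinv τ' hτ')
    have hc0 : (c : ZMod p) ≠ 0 := fun h0 => T.v_notMem hS (by
      rw [← T.fr_top hS hp2, hac, zpow_congr_mod (E_pow hS T' hfr T'.vE)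
        (show (c : ZMod p) = ((0 : ℤ) : ZMod p) by rw [h0, Int.cast_zero]), zpow_zero, mul_one]
      exact Subgroup.zpow_mem _ (comm_mem_fr (Subgroup.mem_top _) (Subgroup.mem_top _)) a)
    have heigen : ⁅r', e'⁆ ^ (a * q - n' * a) * v' ^ (c * q - c) = 1 := by
      have h := hq
      rw [hac, map_mul, map_zpow, map_zpow, tau_v hS T' hfr, tau_z hS T' hfr,
        ((z_commute hS T' hfr v').zpow_zpow a c).mul_zpow, ← zpow_mul, ← zpow_mul, ← zpow_mul] at h
      rw [zpow_sub, zpow_sub, (((z_commute hS T' hfr v').zpow_zpow _ _).inv_left).mul_mul_mul_comm, h,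
        ← mul_inv_rev, ← ((z_commute hS T' hfr v').zpow_zpow (n' * a) c).eq, mul_inv_cancel]
    obtain ⟨h1, h2⟩ := coord_two hS T' hfr heigen
    push_cast at h1 h2
    have hq1 : (q : ZMod p) = 1 := sub_eq_zero.1
      ((mul_eq_zero.1 (show ((q : ZMod p) - 1) * c = 0 by linear_combination h2)).resolve_right hc0)
    rw [hq1] at h1
    have ha0 : (a : ZMod p) = 0 := (mul_eq_zero.1 (show (1 - (n' : ZMod p)) * a = 0 by
      linear_combination h1)).resolve_left (sub_ne_zero.2 (Ne.symm T'.n1))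
    rw [zpow_congr_mod (E_pow hS T' hfr (T'.z_mem hS))
      (show (a : ZMod p) = ((0 : ℤ) : ZMod p) by rw [ha0, Int.cast_zero]), zpow_zero, one_mul] at hac
    have hvv : Subgroup.zpowers v = Subgroup.zpowers v' := by
      refine le_antisymm (Subgroup.zpowers_le.2 (hac ▸ Subgroup.zpow_mem _ (Subgroup.mem_zpowers v') c))
        (Subgroup.zpowers_le.2 ?_)
      refine mem_of_zpow (p := p) ?_ hc0 (by rw [← hac]; exact Subgroup.mem_zpowers v)
      rw [E_pow hS T' hfr T'.vE]; exact one_mem _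
    rw [hvv]
    exact ⟨Subgroup.zpowers_le.2 T'.vE, fun hES α hα x hx =>
      line_invariant hS hF hE hp2 (hall E hE).2 (hall E hE).1 hτ' T' hfr hES hα hx⟩

end Cfsg.Agent.Lib.RankThreePearl69
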