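import Cfsg.Agent.Lib.RankThreePearl69.Two
import Cfsg.Agent.Lib.RankThreePearl69.Regular
import Cfsg.Agent.Lib.RankThreePearl69.Transvection
import Cfsg.Agent.Lib.RankTwoAut.Small

/-!
A saturated system of rank three with trivial core has a pearl.
-/

set_option autoImplicit false
set_option linter.unusedSectionVars false

namespace Cfsg.Agent.Lib.RankThreePearl69

open Cfsg Cfsg.FusionSystem Cfsg.Agent.Lib.Fusion Cfsg.Agent.Lib.Fusion87 Cfsg.Agent.Lib.FusionOrderFive
  Cfsg.Agent.Lib.RankThreeEss69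
open scoped commutatorElement

universe u

variable {Ω : Type u} [Group Ω] {S : Subgroup Ω} [Finite S] {F : FusionSystem S} {p : ℕ}
  [hp : Fact p.Prime]

theorem index_frattini_cases (hS : IsPGroup p S) (hF : F.IsSaturated p)
    (hsr : Cfsg.SectionalPRankLE p 3 S) {E : Subgroup Ω} (hE : F.IsEssential p E) :
    (frattini E).index = p ^ 2 ∨ (frattini E).index = p ^ 3 := by
  haveI := finite_of_le hE.1.1
  have hPp := hS.to_le hE.1.1
  have h2 := RankTwoAut.sq_le_index_frattini hS hF hE
  have hsec : SectRank.IsElemSection p (frattini E) (⊤ : Subgroup E) :=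
    ⟨le_top, fun a _ b _ => Lib.PFrattini.commutator_le_frattini hPp
      (Subgroup.commutator_mem_commutator (Subgroup.mem_top a) (Subgroup.mem_top b)),
      fun a _ => Lib.PFrattini.pow_mem_frattini hPp a⟩
  have h3 := hsec.relIndex_le (rank_le_of_le hsr hE.1.1)
  rw [Subgroup.relIndex_top_right] at h3
  obtain ⟨j, hj⟩ := hPp.index (frattini E)
  rw [hj] at h2 h3 ⊢
  have hj2 := (Nat.pow_le_pow_iff_right hp.out.one_lt).1 h2
  have hj3 := (Nat.pow_le_pow_iff_right hp.out.one_lt).1 h3
  rcases (show j = 2 ∨ j = 3 by omega) with rfl | rfl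
  exacts [Or.inl rfl, Or.inr rfl]

/-- Two generators without a pearl give a non-trivial core. -/
theorem false_of_two (h5 : 5 ≤ p) (hS : IsPGroup p S) (hsr : Cfsg.SectionalPRankLE p 3 S)
    (hF : F.IsSaturated p) (hO : F.core = ⊥) (hnp : ∀ E, F.IsEssential p E → ¬ IsPearlShape p E)
    {E : Subgroup Ω} (hE : F.IsEssential p E) (hrk : (frattini E).index = p ^ 2) : False := by
  have hp2 : p ≠ 2 := by omega
  obtain ⟨-, hcard, Q, hQE, hQc, hQ0, -, huniq, hQS⟩ := two_facts hS hF hE h5 hrk hsr (hnp E hE)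
  have hQS' : Q ≤ S := hQE.trans hE.1.1
  have hn : F.IsNormal Q := by
    refine isNormal_of_aut hS hF fun P hP => ?_
    rcases hP with hP' | hP
    · subst P
      exact ⟨hQS', hQS⟩
    haveI := finite_of_le hP.1.1
    rcases index_frattini_cases hS hF hsr hP with h2 | h3
    · obtain ⟨-, -, Q', hQ'P, hQ'c, -, hinv', -, hQ'S⟩ := two_facts hS hF hP h5 h2 hsr (hnp P hP)
      have hQ'S' : Q' ≤ S := hQ'P.trans hP.1.1
      have hW : (Q'.subgroupOf S).Normal := by
        refine ⟨fun w hw g => ?_⟩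
        exact (hQ'S (MulAut.conj g) (inn_le_autGroup le_rfl ⟨g, rfl⟩)).le
          (Subgroup.mem_map_of_mem (MulAut.conj g).toMonoidHom hw)
      have hQQ : Q' = Q := by
        rw [← huniq _ hW ((Nat.card_congr (Subgroup.subgroupOfEquivOfLe hQ'S').toEquiv).trans hQ'c),
          Subgroup.map_subgroupOf_eq_of_le hQ'S']
      subst hQQ
      exact ⟨hQ'P, hinv'⟩
    · have hN := normalizer_of_rank_three h5 hS hsr hF hP h3
      have iP := idx_sub hS hF hP hp2 h3 hN
      haveI := iP.normal
      have hfc : Nat.card (fr p (P.subgroupOf S)) = p ^ 2 := by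
        refine Nat.eq_of_mul_eq_mul_right (pow_pos hp.out.pos 4) ?_
        rw [← pow_add, show 2 + 4 = 6 from rfl, ← hcard, iP.card_top, iP.card]
        ring
      have hQe := huniq _ inferInstance hfc
      subst hQe
      refine ⟨by rintro _ ⟨x, hx, rfl⟩; exact (fr_le hx : _), fun α hα => ?_⟩
      refine Subgroup.eq_of_le_of_card_ge ?_ (Subgroup.card_map_of_injective α.injective).ge
      rintro _ ⟨x, hx, rfl⟩
      obtain ⟨y, hy, hyx⟩ := hx
      have hx' : Subgroup.inclusion hP.1.1 x ∈ fr p (P.subgroupOf S) := by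
        rwa [show Subgroup.inclusion hP.1.1 x = y from Subtype.ext hyx.symm]
      exact ⟨_, fr_inv hP.1.1 α x hx', rfl⟩
  exact hQ0 (le_bot_iff.1 (hO ▸ le_core hn))

/-- The existence of a pearl. -/
theorem exists_pearl (h5 : 5 ≤ p) (hS : IsPGroup p S)
    (hsr : Cfsg.SectionalPRankLE p 3 S ∧ ¬ Cfsg.SectionalPRankLE p 2 S) (hF : F.IsSaturated p)
    (hO : F.core = ⊥) : ∃ E : Subgroup Ω, F.IsEssential p E ∧ IsPearlShape p E := by
  by_contra hcon
  push Not at hcon
  by_cases hex : ∀ E, ¬ F.IsEssential p E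
  · have hn : F.IsNormal S := by
      refine isNormal_of_aut hS hF fun P hP => ?_
      rcases hP with hP' | hP
      · subst P
        refine ⟨le_rfl, fun α _ => ?_⟩
        rw [Subgroup.subgroupOf_self, Subgroup.map_top_of_surjective _ α.surjective]
      · exact absurd hP (hex P)
    have hbot : S = ⊥ := le_bot_iff.1 (hO ▸ le_core hn)
    refine hsr.2 fun H N _ A _ _ => ?_
    haveI : Subsingleton S := ⟨fun a b => Subtype.ext (by
      rw [Subgroup.mem_bot.1 (hbot.le a.2), Subgroup.mem_bot.1 (hbot.le b.2)])⟩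
    haveI : Subsingleton (H ⧸ N) := Quotient.instSubsingletonQuotient _
    haveI : Subsingleton A := inferInstance
    rw [Nat.card_eq_one_iff_unique.2 ⟨inferInstance, ⟨1⟩⟩]
    exact Nat.one_le_pow _ _ hp.out.pos
  push Not at hex
  obtain ⟨E0, hE0⟩ := hex
  have h3 : ∀ E, F.IsEssential p E → (frattini E).index = p ^ 3 := fun E hE =>
    (index_frattini_cases hS hF hsr.1 hE).resolve_left fun h2 =>
      false_of_two h5 hS hsr.1 hF hO hcon hE h2
  have hall : ∀ E, F.IsEssential p E → normalizerIn S E = S ∧ (frattini E).index = p ^ 3 :=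
    fun E hE => ⟨normalizer_of_rank_three h5 hS hsr.1 hF hE (h3 E hE), h3 E hE⟩
  by_cases hreg : ∀ E, F.IsEssential p E → Regular p (E.subgroupOf S)
  · exact false_of_all_regular h5 hS hsr.1 hF hO hall hreg hE0
  push Not at hreg
  obtain ⟨A, hA, hAn⟩ := hreg
  obtain ⟨τ, -, n, m, r, e, v, T⟩ := exists_tdata_sub hS hF hA h5 (h3 A hA) (hall A hA).1 hAn
  refine false_of_all_transvection hS hF h5 hsr.1 hO hall (fun B hB hB' => ?_) hA
  exact false_of_regular_tdata hS (by omega) T (idx_sub hS hF hB (by omega) (h3 B hB) (hall B hB).1) hB'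

end Cfsg.Agent.Lib.RankThreePearl69
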