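import Cfsg.Agent.Lib.RankThreePearl69.Series

/-!
Such a group has exponent `p` and class two, or its second step is central of order `p ^ 2`.
-/

set_option autoImplicit false
set_option linter.unusedSectionVars false

namespace Cfsg.Agent.Lib.RankThreePearl69

open Subgroup Cfsg.Agent.Lib.RankThreeEss69
open scoped commutatorElement

variable {P : Type*} [Group P] {p : ℕ}

theorem map_comm_eq (α : MulAut P) (a b : P) : α ⁅a, b⁆ = ⁅α a, α b⁆ :=
  map_commutatorElement α.toMonoidHom a b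

/-- Commutators with a central middle term are multiplicative. -/
theorem comm_mul_right_of {a b d : P} (h : Commute b ⁅a, d⁆) : ⁅a, b * d⁆ = ⁅a, b⁆ * ⁅a, d⁆ := by
  calc ⁅a, b * d⁆ = ⁅a, b⁆ * (b * ⁅a, d⁆ * b⁻¹) := by simp only [commutatorElement_def]; group
    _ = ⁅a, b⁆ * ⁅a, d⁆ := by rw [h.eq, mul_inv_cancel_right]

theorem comm_mul_left_of {a b d : P} (h : Commute a ⁅b, d⁆) (h' : Commute ⁅b, d⁆ ⁅a, d⁆) :
    ⁅a * b, d⁆ = ⁅a, d⁆ * ⁅b, d⁆ := by
  calc ⁅a * b, d⁆ = (a * ⁅b, d⁆ * a⁻¹) * ⁅a, d⁆ := by simp only [commutatorElement_def]; group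
    _ = ⁅a, d⁆ * ⁅b, d⁆ := by rw [h.eq, mul_inv_cancel_right, h'.eq]

/-- Conjugation by a power when the commutator is moved by a central amount. -/
theorem conj_pow_eq {X C A Y : P} (hA : Commute X A) (h : X * C * X⁻¹ = A * C)
    (hY : X * Y * X⁻¹ = C * Y) (hAC : Commute A C) (k : ℕ) :
    X ^ k * Y * (X ^ k)⁻¹ = A ^ k.choose 2 * C ^ k * Y := by
  induction k with
  | zero => simp
  | succ k ih =>
    rw [pow_succ', show X * X ^ k * Y * (X * X ^ k)⁻¹ = X * (X ^ k * Y * (X ^ k)⁻¹) * X⁻¹ by group, ih,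
      show X * (A ^ k.choose 2 * C ^ k * Y) * X⁻¹ =
        (X * A * X⁻¹) ^ k.choose 2 * (X * C * X⁻¹) ^ k * (X * Y * X⁻¹) by
          rw [conj_pow, conj_pow]; group,
      hA.eq, mul_inv_cancel_right, h, hY, hAC.mul_pow, Nat.choose_succ_succ k 1, Nat.choose_one_right,
      show Nat.succ 1 = 2 from rfl, pow_add A, pow_succ C]
    rw [← mul_assoc (A ^ k.choose 2), ((Commute.refl A).pow_pow (k.choose 2) k).eq]
    simp only [mul_assoc]

namespace NData

variable {σ : MulAut P} {x y : P} [hp : Fact p.Prime] [Finite P] (hP : IsPGroup p P)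
  (D : NData p σ x y) (h5 : 5 ≤ p)
include hP D h5

/-- Elements of `s1`. -/
theorem exists_c {f : P} (hf : f ∈ s1 p P) : ∃ w ∈ s2 p P, ∃ i : ℤ, f = w * ⁅x, y⁆ ^ i :=
  exists_of_mem_sup ((D.s1_eq_c hP h5).le hf)

theorem pow_mem_s2 (g : P) : g ^ p ∈ s2 p P := by
  have hp2 : p ≠ 2 := by omega
  set π := QuotientGroup.mk' (s2 p P) with hπ
  have T : Two p ((⊤ : Subgroup P).map π) := two_map (M := s1 p P)
    (commutator_le.2 fun a _ b _ => comm_mem_fr (mem_top a) (mem_top b))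
    (commutator_le.2 fun a ha b _ => comm_mem_dn ha b) fun a ha => pow_mem_dn ha
  have hm : ∀ a, π a ∈ (⊤ : Subgroup P).map π := fun a => mem_map_of_mem π (mem_top a)
  let W : Subgroup P :=
    { carrier := {g | π g ^ p = 1}
      one_mem' := by simp
      mul_mem' := fun {a b} ha hb => by
        simp only [Set.mem_setOf_eq] at *
        rw [map_mul, T.mul_pow_eq hp2 (hm a) (hm b), ha, hb, one_mul]
      inv_mem' := fun {a} ha => by simp only [Set.mem_setOf_eq] at *; rw [map_inv, inv_pow, ha, inv_one] }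
  have hW : ∀ g, g ∈ W ↔ g ^ p ∈ s2 p P := fun g => by
    show π g ^ p = 1 ↔ _
    rw [← map_pow, mk'_eq_one]
  rcases D.dich W (fun f hf => (hW f).2 (pow_mem_dn hf))
    (fun α f hf => (hW _).2 (by rw [← map_pow]; exact apply_mem_of_map (map_s2 α) ((hW f).1 hf)))
    with h | h
  · exfalso
    obtain ⟨w, hw, i, hx⟩ := D.exists_c hP h5 (pow_mem_fr (mem_top x) : x ^ p ∈ s1 p P)
    obtain ⟨w', hw', j, hy⟩ := D.exists_c hP h5 (pow_mem_fr (mem_top y) : y ^ p ∈ s1 p P)
    have hXp : π x ^ p = π ⁅x, y⁆ ^ i := by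
      rw [← map_pow, hx, map_mul, map_zpow, show π w = 1 from mk'_eq_one.2 hw, one_mul]
    have hYp : π y ^ p = π ⁅x, y⁆ ^ j := by
      rw [← map_pow, hy, map_mul, map_zpow, show π w' = 1 from mk'_eq_one.2 hw', one_mul]
    have hi : (i : ZMod p) = 0 := by
      have hmem : x ^ j * y ^ (-i) ∈ W := by
        show π (x ^ j * y ^ (-i)) ^ p = 1
        rw [map_mul, T.mul_pow_eq hp2 (hm _) (hm _), map_zpow, map_zpow, ← zpow_natCast,
          ← zpow_natCast (π y ^ (-i)), ← zpow_mul, ← zpow_mul, mul_comm j, mul_comm (-i), zpow_mul,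
          zpow_mul, zpow_natCast, zpow_natCast, hXp, hYp, ← zpow_mul, ← zpow_mul, ← zpow_add,
          show i * j + j * -i = 0 by ring, zpow_zero]
      have := (D.coord hP (h hmem)).2
      simpa using this
    have hxW : x ∈ W := by
      show π x ^ p = 1
      rw [hXp, zpow_congr_mod (j := 0) (by
        rw [← map_pow]; exact mk'_eq_one.2 (pow_mem_dn (comm_mem_fr (mem_top _) (mem_top _))))
        (by rw [hi, Int.cast_zero]), zpow_zero]
    exact D.xn (h hxW)
  · exact (hW g).1 (h ▸ mem_top g)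

theorem c_pow_mem : ⁅x, y⁆ ^ p ∈ s3 p P := by
  have hp2 : p ≠ 2 := by omega
  set π := QuotientGroup.mk' (s3 p P)
  set c := ⁅x, y⁆ with hc
  set a := ⁅x, c⁆ with ha
  have hc1 : c ∈ s1 p P := comm_mem_fr (mem_top _) (mem_top _)
  have cen : ∀ w ∈ s2 p P, ∀ g, Commute (π w) (π g) := fun w hw g => commute_mk' (comm_mem_dn hw g)
  have ha2 : a ∈ s2 p P := comm_mem_dn' hc1 x
  have hap : π a ^ p = 1 := by rw [← map_pow]; exact mk'_eq_one.2 (pow_mem_dn ha2)
  have hX : π x * π c * (π x)⁻¹ = π a * π c := by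
    rw [← map_inv, ← map_mul, ← map_mul, ← map_mul, conj_eq_comm_mul]
  have hY : π x * π y * (π x)⁻¹ = π c * π y := by
    rw [← map_inv, ← map_mul, ← map_mul, ← map_mul, conj_eq_comm_mul]
  have h := conj_pow_eq (cen a ha2 x).symm hX hY (cen a ha2 c) p
  rw [← map_pow π x, (cen _ (D.pow_mem_s2 hP h5 x) y).eq, mul_inv_cancel_right] at h
  obtain ⟨q, hq⟩ := hp.out.dvd_choose_self (k := 2) two_ne_zero (lt_of_le_of_ne hp.out.two_le (Ne.symm hp2))
  rw [hq, pow_mul, hap, one_pow, one_mul, ← map_pow π c] at h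
  exact mk'_eq_one.1 (mul_eq_right.1 h.symm)

theorem gen_s2 : s2 p P ≤ s3 p P ⊔ closure {⁅⁅x, y⁆, x⁆, ⁅⁅x, y⁆, y⁆} := by
  set c := ⁅x, y⁆ with hc
  set K := s3 p P ⊔ closure {⁅c, x⁆, ⁅c, y⁆} with hK
  have hc1 : c ∈ s1 p P := comm_mem_fr (mem_top _) (mem_top _)
  have hKs : K ≤ s2 p P := sup_le dn_le ((closure_le _).2 (by
    rintro w (rfl | rfl) <;> exact comm_mem_dn hc1 _))
  haveI : K.Normal := ⟨fun n hn g => by
    rw [conj_eq_comm_mul]
    exact mul_mem (mem_sup_left (comm_mem_dn' (hKs hn) g)) hn⟩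
  set π := QuotientGroup.mk' K
  have cen : ∀ w ∈ s2 p P, ∀ g, Commute (π w) (π g) := fun w hw g =>
    commute_mk' (mem_sup_left (comm_mem_dn hw g))
  have hcc : ∀ g, Commute (π c) (π g) := fun g => by
    refine commute_mk' (D.central_of hP (mem_sup_right (subset_closure ?_))
      (mem_sup_right (subset_closure ?_)) g) <;> simp
  refine sup_le ((closure_le _).2 ?_) (commutator_le.2 fun f hf g _ => ?_)
  · rintro _ ⟨f, hf, rfl⟩
    obtain ⟨w, hw, i, rfl⟩ := D.exists_c hP h5 hf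
    show (w * c ^ i) ^ p ∈ K
    rw [← mk'_eq_one, map_pow, map_mul, map_zpow, ((cen w hw c).zpow_right i).mul_pow, ← map_pow,
      show π (w ^ p) = 1 from mk'_eq_one.2 (mem_sup_left (pow_mem_dn hw)), one_mul, ← zpow_natCast,
      ← zpow_mul, mul_comm, zpow_mul, zpow_natCast, ← map_pow π c,
      show π (c ^ p) = 1 from mk'_eq_one.2 (mem_sup_left (D.c_pow_mem hP h5)), one_zpow]
  · obtain ⟨w, hw, i, rfl⟩ := D.exists_c hP h5 hf
    rw [comm_mem_iff, map_mul, map_zpow]
    exact (cen w hw g).mul_left ((hcc g).zpow_left i)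

/-- The second step is `s1`-independent: the two generators are independent modulo `s3`. -/
theorem uv_indep (hne : s2 p P ≠ ⊥) {i j : ℤ}
    (h : ⁅⁅x, y⁆, x⁆ ^ i * ⁅⁅x, y⁆, y⁆ ^ j ∈ s3 p P) : (i : ZMod p) = 0 ∧ (j : ZMod p) = 0 := by
  set π := QuotientGroup.mk' (s3 p P)
  set c := ⁅x, y⁆ with hc
  have hc1 : c ∈ s1 p P := comm_mem_fr (mem_top _) (mem_top _)
  have cen : ∀ w ∈ s2 p P, ∀ g, Commute (π w) (π g) := fun w hw g => commute_mk' (comm_mem_dn hw g)
  have mulr : ∀ f ∈ s1 p P, ∀ g g', π ⁅f, g * g'⁆ = π ⁅f, g⁆ * π ⁅f, g'⁆ := fun f hf g g' => by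
    rw [map_commutatorElement, map_mul, comm_mul_right_of, map_commutatorElement, map_commutatorElement]
    rw [← map_commutatorElement]
    exact (cen _ (comm_mem_dn hf g') g).symm
  let φ : P →* P ⧸ s3 p P :=
    { toFun := fun g => π ⁅c, g⁆
      map_one' := by simp
      map_mul' := fun g g' => mulr c hc1 g g' }
  let W : Subgroup P :=
    { carrier := {g | ∀ f ∈ s1 p P, π ⁅f, g⁆ = 1}
      one_mem' := fun f _ => by simp
      mul_mem' := fun {a b} ha hb f hf => by rw [mulr f hf, ha f hf, hb f hf, one_mul]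
      inv_mem' := fun {a} ha f hf => by
        have h1 := mulr f hf a a⁻¹
        rw [mul_inv_cancel, commutatorElement_one_right, map_one, ha f hf, one_mul] at h1
        exact h1.symm }
  have hWφ : ∀ g, φ g = 1 → g ∈ W := fun g hg f hf => by
    obtain ⟨w, hw, k, rfl⟩ := D.exists_c hP h5 hf
    rw [map_commutatorElement, commutatorElement_eq_one_iff_commute, map_mul, map_zpow]
    refine (cen w hw g).mul_left (Commute.zpow_left ?_ k)
    rw [← commutatorElement_eq_one_iff_commute, ← map_commutatorElement]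
    exact hg
  have hs11 : s1 p P ≤ W := fun g hg => hWφ g (by
    obtain ⟨w, hw, k, rfl⟩ := D.exists_c hP h5 hg
    show π ⁅c, w * c ^ k⁆ = 1
    rw [map_commutatorElement, commutatorElement_eq_one_iff_commute, map_mul, map_zpow]
    exact (cen w hw c).symm.mul_right ((Commute.refl (π c)).zpow_right k))
  rcases D.dich W hs11 (fun α g hg f hf => by
      obtain ⟨f', rfl⟩ := α.surjective f
      rw [← map_comm_eq, mk'_eq_one]
      refine apply_mem_of_map (map_s3 α) (mk'_eq_one.1 (hg f' ?_))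
      have := apply_mem_of_map (map_s1 α⁻¹) hf
      rwa [MulAut.inv_apply_self] at this) with hW | hW
  · refine D.coord hP (hW (hWφ _ ?_))
    show φ _ = 1
    rw [map_mul, map_zpow, map_zpow]
    show π ⁅c, x⁆ ^ i * π ⁅c, y⁆ ^ j = 1
    rw [← map_zpow, ← map_zpow, ← map_mul]
    exact mk'_eq_one.2 h
  · refine absurd ?_ hne
    refine le_bot_of_le_dn hP ((D.gen_s2 hP h5).trans (sup_le le_rfl ((closure_le _).2 ?_)))
    rintro w (rfl | rfl)
    all_goals exact mk'_eq_one.1 ((hW ▸ mem_top _ : _ ∈ W) c hc1)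

theorem comm_s2_le : ∀ f ∈ s1 p P, ∀ w ∈ s2 p P, ⁅f, w⁆ ∈ s4 p P := by
  set π := QuotientGroup.mk' (s4 p P)
  have h3 : ⁅(s3 p P).map π, (⊤ : Subgroup P).map π⁆ = ⊥ := by
    rw [← map_commutator, Subgroup.map_eq_bot_iff, QuotientGroup.ker_mk']
    exact le_sup_right
  have hDD : ⁅⁅(⊤ : Subgroup P).map π, (⊤ : Subgroup P).map π⁆, (s2 p P).map π⁆ = ⊥ := by
    have e : ⁅(⊤ : Subgroup P).map π, (s2 p P).map π⁆ ≤ (s3 p P).map π := by
      rw [← map_commutator]; exact map_mono (commutator_le.2 fun a _ b hb => comm_mem_dn' hb a)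
    refine commutator_commutator_eq_bot_of_rotate (eq_bot_iff.2 ((commutator_mono e le_rfl).trans h3.le))
      (eq_bot_iff.2 ?_)
    rw [commutator_comm ((s2 p P).map π)]
    exact (commutator_mono e le_rfl).trans h3.le
  have key : ∀ d ∈ ⁅(⊤ : Subgroup P), (⊤ : Subgroup P)⁆, ∀ w ∈ s2 p P, Commute (π d) (π w) := by
    intro d hd w hw
    refine commutatorElement_eq_one_iff_commute.1 (mem_bot.1 (hDD.le (commutator_mem_commutator ?_
      (mem_map_of_mem π hw))))
    rw [← map_commutator]; exact mem_map_of_mem π hd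
  have hs2 : s2 p P ≤ ⁅(⊤ : Subgroup P), (⊤ : Subgroup P)⁆ ⊔ s3 p P :=
    (D.gen_s2 hP h5).trans (sup_le le_sup_right (((closure_le _).2 (by
      rintro w (rfl | rfl) <;> exact commutator_mem_commutator (mem_top _) (mem_top _))).trans le_sup_left))
  have key2 : ∀ w ∈ s2 p P, ⁅(⊤ : Subgroup P), (⊤ : Subgroup P)⁆ ⊔ s3 p P ≤
      (centralizer ({π w} : Set (P ⧸ s4 p P))).comap π := fun w hw => sup_le
    (fun d hd => mem_comap.2 (mem_centralizer_singleton_iff.2 (key d hd w hw).eq))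
    fun d hd => mem_comap.2 (mem_centralizer_singleton_iff.2 (commute_mk' (comm_mem_dn hd w)).eq)
  intro f hf w hw
  obtain ⟨w', hw', k, rfl⟩ := D.exists_c hP h5 hf
  rw [comm_mem_iff, map_mul, map_zpow]
  exact Commute.mul_left (mem_centralizer_singleton_iff.1 (mem_comap.1 (key2 w hw (hs2 hw'))))
    ((key _ (commutator_mem_commutator (mem_top _) (mem_top _)) w hw).zpow_left k)

/-- The pairing of the second step with the group. -/
theorem pair_mul_left {w w' : P} (hw' : w' ∈ s2 p P) (g : P) :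
    QuotientGroup.mk' (s4 p P) ⁅w * w', g⁆ =
      QuotientGroup.mk' (s4 p P) ⁅w, g⁆ * QuotientGroup.mk' (s4 p P) ⁅w', g⁆ := by
  rw [map_commutatorElement, map_mul, comm_mul_left_of, ← map_commutatorElement, ← map_commutatorElement]
  · rw [← map_commutatorElement]; exact (commute_mk' (comm_mem_dn (comm_mem_dn hw' g) w)).symm
  · rw [← map_commutatorElement, ← map_commutatorElement]
    exact commute_mk' (comm_mem_dn (comm_mem_dn hw' g) _)

theorem pair_mul_right {w : P} (hw : w ∈ s2 p P) (g g' : P) :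
    QuotientGroup.mk' (s4 p P) ⁅w, g * g'⁆ =
      QuotientGroup.mk' (s4 p P) ⁅w, g⁆ * QuotientGroup.mk' (s4 p P) ⁅w, g'⁆ := by
  rw [map_commutatorElement, map_mul, comm_mul_right_of, ← map_commutatorElement, ← map_commutatorElement]
  rw [← map_commutatorElement]
  exact (commute_mk' (comm_mem_dn (comm_mem_dn hw g') g)).symm

theorem pair_s3_left {w : P} (hw : w ∈ s3 p P) (g : P) : QuotientGroup.mk' (s4 p P) ⁅w, g⁆ = 1 :=
  mk'_eq_one.2 (comm_mem_dn hw g)

theorem pair_s1_right {w f : P} (hw : w ∈ s2 p P) (hf : f ∈ s1 p P) :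
    QuotientGroup.mk' (s4 p P) ⁅w, f⁆ = 1 := by
  rw [mk'_eq_one, ← commutatorElement_inv]
  exact inv_mem (D.comm_s2_le hP h5 f hf w hw)

/-- The third step is trivial. -/
theorem s3_eq_bot (hr : Cfsg.SectionalPRankLE p 3 P) : s3 p P = ⊥ := by
  by_cases hne : s2 p P = ⊥
  · exact le_bot_iff.1 (dn_le.trans hne.le)
  have hp2 : p ≠ 2 := by omega
  set π := QuotientGroup.mk' (s4 p P) with hπ
  set c := ⁅x, y⁆ with hc
  set u := ⁅c, x⁆ with hu
  set v := ⁅c, y⁆ with hv
  have hc1 : c ∈ s1 p P := comm_mem_fr (mem_top _) (mem_top _)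
  have huS : u ∈ s2 p P := comm_mem_dn hc1 x
  have hvS : v ∈ s2 p P := comm_mem_dn hc1 y
  have cen : ∀ w ∈ s3 p P, ∀ g, Commute (π w) (π g) := fun w hw g => commute_mk' (comm_mem_dn hw g)
  have cen1 : ∀ f ∈ s1 p P, ∀ w ∈ s2 p P, Commute (π f) (π w) := fun f hf w hw =>
    commute_mk' (D.comm_s2_le hP h5 f hf w hw)
  have hpowc : ∀ g, π (⁅c, g⁆ ^ p) = 1 := by
    intro g
    have h1 : ∀ k : ℕ, π ⁅c ^ k, g⁆ = π ⁅c, g⁆ ^ k := by
      intro k
      induction k with
      | zero => simp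
      | succ k ih =>
        rw [pow_succ, map_commutatorElement, map_mul, comm_mul_left_of, ← map_commutatorElement,
          ← map_commutatorElement, ih, pow_succ]
        · rw [← map_commutatorElement]; exact cen1 _ (pow_mem hc1 k) _ (comm_mem_dn hc1 g)
        · rw [← map_commutatorElement, ← map_commutatorElement]
          exact cen1 _ (dn_le (comm_mem_dn (p := p) hc1 g)) _ (comm_mem_dn (pow_mem hc1 k) g)
    rw [map_pow, ← h1]
    exact D.pair_s3_left hP h5 (D.c_pow_mem hP h5) g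
  -- the second step modulo the fourth is elementary
  set s : Set P := (s3 p P : Set P) ∪ {u, v}
  have hcomm : ∀ a ∈ s, ∀ b ∈ s, ⁅a, b⁆ ∈ s4 p P := by
    have hsS : ∀ a ∈ s, a ∈ s2 p P := by
      rintro a (ha | rfl | rfl)
      exacts [dn_le ha, huS, hvS]
    exact fun a ha b hb => D.comm_s2_le hP h5 a (dn_le (hsS a ha)) b (hsS b hb)
  have hpows : ∀ a ∈ s, a ^ p ∈ s4 p P := by
    rintro a (ha | rfl | rfl)
    exacts [pow_mem_dn ha, mk'_eq_one.1 (hpowc x), mk'_eq_one.1 (hpowc y)]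
  have hs : SectRank.IsElemSection p (s4 p P) (s4 p P ⊔ closure s) := isElemSection_of_gen hcomm hpows
  have hs2 : s2 p P = s4 p P ⊔ closure s := by
    refine le_antisymm ((D.gen_s2 hP h5).trans (sup_le ?_ ?_)) (sup_le (dn_le.trans dn_le) ((closure_le _).2 ?_))
    · exact fun a ha => mem_sup_right (subset_closure (Or.inl ha))
    · exact (Subgroup.closure_mono Set.subset_union_right).trans le_sup_right
    · rintro a (ha | rfl | rfl)
      exacts [dn_le ha, huS, hvS]
  have hbig : Nat.card (s3 p P) * p * p ≤ Nat.card (s2 p P) := by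
    have hu3 : u ∉ s3 p P := fun h => one_ne_zero
      (α := ZMod p) (by simpa using (D.uv_indep hP h5 hne (i := 1) (j := 0) (by simpa using h)).1)
    have hN : (s3 p P ⊔ zpowers u).Normal := ⟨fun n hn g => by
      rw [conj_eq_comm_mul]
      exact mul_mem (mem_sup_left (comm_mem_dn' (sup_le dn_le (zpowers_le.2 huS) hn) g)) hn⟩
    have hv3 : v ∉ s3 p P ⊔ zpowers u := fun h => by
      obtain ⟨w, hw, i, hi⟩ := exists_of_mem_sup h
      have h2 := (D.uv_indep hP h5 hne (i := -i) (j := 1) (by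
        rw [zpow_one, ← hc, ← hu, ← hv, hi, show u ^ (-i) * (w * u ^ i) = u ^ (-i) * w * (u ^ (-i))⁻¹ by group]
        exact Subgroup.Normal.conj_mem inferInstance w hw _)).2
      simp at h2
    rw [← card_sup_zpowers_eq hP (pow_mem_dn huS) hu3,
      ← card_sup_zpowers_eq hP (mem_sup_left (pow_mem_dn hvS)) hv3]
    exact card_le_of_le (sup_le (sup_le dn_le (zpowers_le.2 huS)) (zpowers_le.2 hvS))
  have h34 : Nat.card (s3 p P) ≤ Nat.card (s4 p P) * p := by
    have h1 := card_le_of_rank hP hr hs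
    rw [← hs2] at h1
    have h2 := hbig.trans h1
    rw [show p ^ 3 = p * p * p by ring, ← mul_assoc, ← mul_assoc] at h2
    exact Nat.le_of_mul_le_mul_right (Nat.le_of_mul_le_mul_right h2 hp.out.pos) hp.out.pos
  obtain ⟨k, hk⟩ := D.so
  have hlayer : ∀ z ∈ s3 p P, π (σ z) = π z := fun z hz => by
    have hd : (s4 p P).relIndex (s3 p P) ∣ p := by
      obtain ⟨n, hn⟩ := (hP.to_subgroup (s3 p P)).index ((s4 p P).subgroupOf (s3 p P))
      rw [relIndex, hn]
      refine (Nat.pow_dvd_pow p ?_).trans (pow_one p).dvd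
      rw [← Nat.pow_le_pow_iff_right hp.out.one_lt, pow_one, ← hn]
      have h1 := SectRank.card_mul_relIndex_of_le (s4 p P) (s3 p P) dn_le
      rw [← h1] at h34
      exact Nat.le_of_mul_le_mul_left h34 Nat.card_pos
    have := RankTwoAut.step_trivial (W := s4 p P) (V := s3 p P) dn_le hd hk
      (fun w hw => apply_mem_of_map (map_s4 σ) hw) (fun w hw => apply_mem_of_map (map_s3 σ) hw) hz
    exact (QuotientGroup.eq.2 this).symm
  -- images of the triple commutators
  have e1 := fun w (hw : w ∈ s2 p P) g g' => D.pair_mul_right hP h5 hw g g'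
  have e2 := fun w w' (hw : w' ∈ s2 p P) g => D.pair_mul_left hP h5 (w := w) hw g
  obtain ⟨fx, hfx, hsx⟩ : ∃ f ∈ s1 p P, σ x = x * f := ⟨_, D.sx, (mul_inv_cancel_left _ _).symm⟩
  have hmod : ∀ w ∈ s2 p P, ∀ w', QuotientGroup.mk' (s3 p P) w' = QuotientGroup.mk' (s3 p P) w →
      ∀ g, π ⁅w', g⁆ = π ⁅w, g⁆ := fun w hw w' h g => by
    obtain ⟨d, hd, rfl⟩ : ∃ d ∈ s3 p P, w' = w * d :=
      ⟨_, QuotientGroup.eq.1 h.symm, (mul_inv_cancel_left _ _).symm⟩
    rw [e2 _ _ (dn_le hd), D.pair_s3_left hP h5 hd, mul_one]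
  set π3 := QuotientGroup.mk' (s3 p P)
  have cen3 : ∀ w ∈ s2 p P, ∀ g, Commute (π3 w) (π3 g) := fun w hw g => commute_mk' (comm_mem_dn hw g)
  have hσc : ∀ g, π3 ⁅σ c, g⁆ = π3 ⁅c, g⁆ := by
    intro g
    set π2 := QuotientGroup.mk' (s2 p P)
    have cen2 : ∀ f ∈ s1 p P, ∀ g, Commute (π2 f) (π2 g) := fun f hf g => commute_mk' (comm_mem_dn hf g)
    have h : π2 (σ c) = π2 c := by
      have hfc : ∀ g : P ⧸ s2 p P, ⁅π2 fx, g⁆ = 1 := fun g => QuotientGroup.induction_on g fun g =>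
        commutatorElement_eq_one_iff_commute.2 (cen2 _ hfx g)
      rw [map_comm_eq, map_commutatorElement, D.sy, hsx, map_mul, map_mul,
        comm_mul_left_of (by rw [hfc]; exact Commute.one_right _) (by rw [hfc]; exact Commute.one_left _),
        hfc, mul_one, comm_mul_right_of, commutatorElement_self, one_mul, ← map_commutatorElement]
      rw [← map_commutatorElement]
      exact (cen2 _ (comm_mem_fr (mem_top _) (mem_top _)) _).symm
    obtain ⟨d, hd, hd'⟩ : ∃ d ∈ s2 p P, σ c = c * d :=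
      ⟨_, QuotientGroup.eq.1 h.symm, (mul_inv_cancel_left _ _).symm⟩
    rw [hd', map_commutatorElement, map_mul, comm_mul_left_of,
      commutatorElement_eq_one_iff_commute.2 (cen3 d hd g), mul_one, ← map_commutatorElement]
    · rw [commutatorElement_eq_one_iff_commute.2 (cen3 d hd g)]; exact Commute.one_right _
    · rw [commutatorElement_eq_one_iff_commute.2 (cen3 d hd g)]; exact Commute.one_left _
  have hσu : π3 (σ u) = π3 u := by
    rw [hu, map_comm_eq, hσc, hsx, map_commutatorElement, map_mul, comm_mul_right_of,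
      ← map_commutatorElement, ← map_commutatorElement π3 c fx,
      show π3 ⁅c, fx⁆ = 1 from mk'_eq_one.2 ?_, mul_one]
    · obtain ⟨w, hw, i, rfl⟩ := D.exists_c hP h5 hfx
      rw [comm_mem_iff, map_mul, map_zpow]
      exact (cen3 w hw c).symm.mul_right ((Commute.refl _).zpow_right i)
    · rw [← map_commutatorElement]; exact (cen3 _ (comm_mem_dn hc1 _) _).symm
  have hσv : π3 (σ v) = π3 (u * v) := by
    rw [hv, map_comm_eq, hσc, D.sy, map_commutatorElement, map_mul, comm_mul_right_of,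
      ← map_commutatorElement, ← map_commutatorElement, ← map_mul]
    rw [← map_commutatorElement]
    exact (cen3 _ (comm_mem_dn hc1 _) _).symm
  have img : ∀ w ∈ s2 p P, ∀ g, π ⁅σ w, σ g⁆ = π ⁅w, g⁆ := fun w hw g => by
    rw [← map_comm_eq]; exact hlayer _ (comm_mem_dn hw g)
  -- the symmetry
  have hsym : π ⁅u, y⁆ = π ⁅v, x⁆ := by
    set X := π x
    set Y := π y
    set C := π c
    set U := π u
    set V := π v
    have hyU : Y⁻¹ * Y = 1 := inv_mul_cancel Y
    have hU : X * C * X⁻¹ = U⁻¹ * C := by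
      show π x * π c * (π x)⁻¹ = (π u)⁻¹ * π c
      rw [← map_inv, ← map_inv, ← map_mul, ← map_mul, ← map_mul, conj_eq_comm_mul, hu,
        commutatorElement_inv]
    have hV : Y * C * Y⁻¹ = V⁻¹ * C := by
      show π y * π c * (π y)⁻¹ = (π v)⁻¹ * π c
      rw [← map_inv, ← map_inv, ← map_mul, ← map_mul, ← map_mul, conj_eq_comm_mul, hv,
        commutatorElement_inv]
    have hQ : Y * U⁻¹ * Y⁻¹ = U⁻¹ * π ⁅u, y⁆ := by
      rw [map_commutatorElement]; show Y * U⁻¹ * Y⁻¹ = U⁻¹ * ⁅U, Y⁆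
      rw [commutatorElement_def]; group
    have hR : X * V⁻¹ * X⁻¹ = V⁻¹ * π ⁅v, x⁆ := by
      rw [map_commutatorElement]; show X * V⁻¹ * X⁻¹ = V⁻¹ * ⁅V, X⁆
      rw [commutatorElement_def]; group
    have hxy : X * Y = C * (Y * X) := by
      show π x * π y = π c * (π y * π x)
      rw [← map_mul, ← map_mul, ← map_mul, hc, commutatorElement_def]
      congr 1
      group
    have hCU : Commute C U := cen1 c hc1 u huS
    have hCV : Commute C V := cen1 c hc1 v hvS
    have hUV : Commute U V := cen1 u (dn_le huS) v hvS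
    have a1 : X * Y * C * (X * Y)⁻¹ = V⁻¹ * π ⁅v, x⁆ * (U⁻¹ * C) := by
      rw [show X * Y * C * (X * Y)⁻¹ = X * (Y * C * Y⁻¹) * X⁻¹ by group, hV,
        show X * (V⁻¹ * C) * X⁻¹ = X * V⁻¹ * X⁻¹ * (X * C * X⁻¹) by group, hR, hU]
    have a2 : X * Y * C * (X * Y)⁻¹ = U⁻¹ * π ⁅u, y⁆ * (V⁻¹ * C) := by
      rw [hxy, show C * (Y * X) * C * (C * (Y * X))⁻¹ = C * (Y * (X * C * X⁻¹) * Y⁻¹) * C⁻¹ by group,
        hU, show Y * (U⁻¹ * C) * Y⁻¹ = Y * U⁻¹ * Y⁻¹ * (Y * C * Y⁻¹) by group, hQ, hV]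
      have hc' : Commute C (U⁻¹ * π ⁅u, y⁆ * (V⁻¹ * C)) :=
        (hCU.inv_right.mul_right (cen _ (comm_mem_dn huS y) c).symm).mul_right
          (hCV.inv_right.mul_right (Commute.refl C))
      rw [hc'.eq, mul_inv_cancel_right]
    have h := a1.symm.trans a2
    have q1 : Commute (π ⁅v, x⁆) U⁻¹ := (cen _ (comm_mem_dn hvS x) u).inv_right
    have q2 : Commute (π ⁅u, y⁆) V⁻¹ := (cen _ (comm_mem_dn huS y) v).inv_right
    rw [← mul_assoc, ← mul_assoc, mul_assoc V⁻¹, q1.eq, mul_assoc U⁻¹, q2.eq, ← mul_assoc, ← mul_assoc,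
      mul_left_inj, (hUV.inv_inv).eq] at h
    exact (mul_left_cancel h).symm
  have hvm : ∀ g, π ⁅σ v, g⁆ = π ⁅u, g⁆ * π ⁅v, g⁆ := fun g => by
    rw [hmod _ (mul_mem huS hvS) _ hσv, e2 _ _ hvS]
  have hum : ∀ g, π ⁅σ u, g⁆ = π ⁅u, g⁆ := fun g => hmod _ huS _ hσu g
  have hsx' : ∀ w ∈ s2 p P, π ⁅w, σ x⁆ = π ⁅w, x⁆ := fun w hw => by
    rw [hsx, e1 _ hw, D.pair_s1_right hP h5 hw hfx, mul_one]
  have hPz : π ⁅u, x⁆ = 1 := by
    have h := img u huS y
    rw [hum, D.sy, e1 _ huS] at h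
    exact mul_eq_right.1 h
  have hQz : π ⁅u, y⁆ = 1 := by
    have h := img v hvS y
    rw [D.sy, hvm, e1 _ huS, e1 _ hvS, hPz, one_mul, ← mul_assoc, mul_eq_right, ← hsym] at h
    have h2 : π ⁅u, y⁆ ^ p = 1 := by
      rw [← map_pow]; exact mk'_eq_one.2 (pow_mem_dn (comm_mem_dn huS y))
    by_contra h1
    have h0 : π ⁅u, y⁆ ^ (2 : ℤ) = 1 := by rw [zpow_two]; exact h
    have h3 := cast_zero_of_zpow h2 h1 h0
    have h3' : ((2 : ℕ) : ZMod p) = 0 := by simpa using h3
    rw [ZMod.natCast_eq_zero_iff] at h3'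
    exact absurd (Nat.le_of_dvd two_pos h3') (by omega)
  have hQ' : π ⁅v, x⁆ = 1 := hsym ▸ hQz
  -- the radical
  let W : Subgroup P :=
    { carrier := {g | ∀ w ∈ s2 p P, π ⁅w, g⁆ = 1}
      one_mem' := fun w _ => by simp
      mul_mem' := fun {a b} ha hb w hw => by rw [e1 w hw, ha w hw, hb w hw, one_mul]
      inv_mem' := fun {a} ha w hw => by
        have h1 := e1 w hw a a⁻¹
        rw [mul_inv_cancel, commutatorElement_one_right, map_one, ha w hw, one_mul] at h1
        exact h1.symm }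
  have hWx : x ∈ W := fun w hw => by
    rw [map_commutatorElement, commutatorElement_eq_one_iff_commute]
    refine (?_ : s2 p P ≤ (centralizer ({π x} : Set (P ⧸ s4 p P))).comap π) hw |>
      fun h => (mem_centralizer_singleton_iff.1 (mem_comap.1 h))
    refine (D.gen_s2 hP h5).trans (sup_le ?_ ((closure_le _).2 ?_))
    · exact fun a ha => mem_comap.2 (mem_centralizer_singleton_iff.2 (cen a ha x).eq)
    · rintro a (rfl | rfl)
      all_goals refine mem_comap.2 (mem_centralizer_singleton_iff.2 (Commute.eq ?_))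
      all_goals rw [← commutatorElement_eq_one_iff_commute, ← map_commutatorElement]
      exacts [hPz, hQ']
  have hW : W = ⊤ := D.eq_top_of_mem hP (fun f hf w hw => D.pair_s1_right hP h5 hw hf)
    (fun α g hg w hw => by
      obtain ⟨w', rfl⟩ := α.surjective w
      rw [← map_comm_eq, mk'_eq_one]
      refine apply_mem_of_map (map_s4 α) (mk'_eq_one.1 (hg w' ?_))
      have := apply_mem_of_map (map_s2 α⁻¹) hw
      rwa [MulAut.inv_apply_self] at this) hWx
  refine le_bot_of_le_dn hP (sup_le ((closure_le _).2 ?_) (commutator_le.2 fun w hw g _ => ?_))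
  · rintro _ ⟨w, hw, rfl⟩
    exact hs.pow w (hs2.le hw)
  · exact mk'_eq_one.1 ((hW ▸ mem_top g : g ∈ W) w hw)

end NData

end Cfsg.Agent.Lib.RankThreePearl69
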