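import Cfsg.Agent.Lib.RankThreeEss69.TData
import Cfsg.Agent.Lib.RankTwoAut.Essential

/-!
The descending series of a two-generated `p`-group with no characteristic subgroup of index `p`.
-/

set_option autoImplicit false
set_option linter.unusedSectionVars false

namespace Cfsg.Agent.Lib.RankThreePearl69

open Subgroup Cfsg.Agent.Lib.RankThreeEss69
open scoped commutatorElement

variable {P : Type*} [Group P] {p : ℕ}

/-- One step down. -/
def dn (p : ℕ) (H : Subgroup P) : Subgroup P := pw p H ⊔ ⁅H, (⊤ : Subgroup P)⁆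

abbrev s1 (p : ℕ) (P : Type*) [Group P] : Subgroup P := fr p (⊤ : Subgroup P)
abbrev s2 (p : ℕ) (P : Type*) [Group P] : Subgroup P := dn p (s1 p P)
abbrev s3 (p : ℕ) (P : Type*) [Group P] : Subgroup P := dn p (s2 p P)
abbrev s4 (p : ℕ) (P : Type*) [Group P] : Subgroup P := dn p (s3 p P)

theorem pow_mem_dn {H : Subgroup P} {x : P} (hx : x ∈ H) : x ^ p ∈ dn p H :=
  mem_sup_left (pow_mem_pw hx)

theorem comm_mem_dn {H : Subgroup P} {x : P} (hx : x ∈ H) (g : P) : ⁅x, g⁆ ∈ dn p H :=
  mem_sup_right (commutator_mem_commutator hx (mem_top g))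

theorem comm_mem_dn' {H : Subgroup P} {x : P} (hx : x ∈ H) (g : P) : ⁅g, x⁆ ∈ dn p H := by
  rw [← commutatorElement_inv]; exact inv_mem (comm_mem_dn hx g)

theorem dn_le {H : Subgroup P} [H.Normal] : dn p H ≤ H := sup_le pw_le (commutator_le_left _ _)

instance dn_normal (H : Subgroup P) [H.Normal] : (dn p H).Normal := by
  unfold dn; infer_instance

theorem map_dn (α : MulAut P) {H : Subgroup P} (h : H.map α.toMonoidHom = H) :
    (dn p H).map α.toMonoidHom = dn p H := by
  rw [dn, Subgroup.map_sup, map_pw, map_commutator, h, map_top_of_surjective _ α.surjective]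

theorem map_s1 (α : MulAut P) : (s1 p P).map α.toMonoidHom = s1 p P := by
  rw [s1, map_fr, map_top_of_surjective _ α.surjective]

theorem map_s2 (α : MulAut P) : (s2 p P).map α.toMonoidHom = s2 p P := map_dn α (map_s1 α)
theorem map_s3 (α : MulAut P) : (s3 p P).map α.toMonoidHom = s3 p P := map_dn α (map_s2 α)
theorem map_s4 (α : MulAut P) : (s4 p P).map α.toMonoidHom = s4 p P := map_dn α (map_s3 α)

theorem apply_mem_of_map {H : Subgroup P} {α : MulAut P} (h : H.map α.toMonoidHom = H) {x : P}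
    (hx : x ∈ H) : α x ∈ H := h.le (mem_map_of_mem α.toMonoidHom hx)

/-- Congruent elements modulo an invariant normal subgroup have congruent images. -/
theorem mk_apply_eq {K : Subgroup P} [K.Normal] {α : MulAut P} (h : K.map α.toMonoidHom = K)
    {a b : P} (hab : QuotientGroup.mk' K a = QuotientGroup.mk' K b) :
    QuotientGroup.mk' K (α a) = QuotientGroup.mk' K (α b) := by
  refine QuotientGroup.eq.2 ?_
  rw [← map_inv, ← map_mul]
  exact apply_mem_of_map h (QuotientGroup.eq.1 hab)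

theorem le_bot_of_le_dn [Fact p.Prime] [Finite P] (hP : IsPGroup p P) {H : Subgroup P} [H.Normal]
    (h : H ≤ dn p H) : H = ⊥ := by
  have h1 : H ≤ pw p H := le_of_le_comm_sup hP (by rw [sup_comm]; exact h)
  exact le_bot_iff.1 (le_of_le_sup_fr (p := p) hP bot_le (h1.trans (le_sup_left.trans le_sup_right)))

/-- The data: generators moved by a unipotent automorphism. -/
structure NData (p : ℕ) (σ : MulAut P) (x y : P) : Prop where
  card : Nat.card P = Nat.card (s1 p P) * p ^ 2
  dich : ∀ K : Subgroup P, s1 p P ≤ K → (∀ α : MulAut P, ∀ g ∈ K, α g ∈ K) → K ≤ s1 p P ∨ K = ⊤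
  sy : σ y = x * y
  sx : x⁻¹ * σ x ∈ s1 p P
  xn : x ∉ s1 p P
  yn : y ∉ s1 p P ⊔ zpowers x
  sp : ∀ g : P, g⁻¹ * (σ ^ p) g ∈ ⁅(⊤ : Subgroup P), (⊤ : Subgroup P)⁆
  so : ∃ k : ℕ, σ ^ p ^ k = 1

namespace NData

variable {σ : MulAut P} {x y : P} [hp : Fact p.Prime] [Finite P] (hP : IsPGroup p P)
  (D : NData p σ x y)
include hP D

theorem sup_eq_top : s1 p P ⊔ zpowers x ⊔ zpowers y = ⊤ := by
  haveI : (s1 p P ⊔ zpowers x).Normal :=
    ⟨fun n hn g => by
      rw [conj_eq_comm_mul]
      exact mul_mem (mem_sup_left (comm_mem_fr (mem_top _) (mem_top _))) hn⟩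
  refine eq_top_of_le_card _ ?_
  rw [D.card, card_sup_zpowers_eq hP (mem_sup_left (pow_mem_fr (mem_top y))) D.yn,
    card_sup_zpowers_eq hP (pow_mem_fr (mem_top x)) D.xn, sq, mul_assoc]

theorem closure_eq_top : closure {x, y} = ⊤ :=
  top_le_iff.1 (le_of_le_sup_fr (p := p) hP le_top ((D.sup_eq_top hP).ge.trans (by
    refine sup_le (sup_le le_sup_right ?_) ?_
    all_goals exact (zpowers_le.2 (subset_closure (by simp))).trans le_sup_left)))

theorem exists_coord (g : P) : ∃ f ∈ s1 p P, ∃ i j : ℤ, g = f * x ^ i * y ^ j := by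
  haveI : (s1 p P ⊔ zpowers x).Normal :=
    ⟨fun n hn g => by
      rw [conj_eq_comm_mul]
      exact mul_mem (mem_sup_left (comm_mem_fr (mem_top _) (mem_top _))) hn⟩
  obtain ⟨k, hk, j, rfl⟩ := exists_of_mem_sup ((D.sup_eq_top hP).ge (mem_top g))
  obtain ⟨f, hf, i, rfl⟩ := exists_of_mem_sup hk
  exact ⟨f, hf, i, j, rfl⟩

theorem coord {i j : ℤ} (h : x ^ i * y ^ j ∈ s1 p P) : (i : ZMod p) = 0 ∧ (j : ZMod p) = 0 := by
  have hj : (j : ZMod p) = 0 := by
    by_contra hj
    refine D.yn (mem_of_zpow (mem_sup_left (pow_mem_fr (mem_top y))) hj ?_)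
    simpa using mul_mem (mem_sup_right (zpow_mem (mem_zpowers x) (-i)) : x ^ (-i) ∈ s1 p P ⊔ zpowers x)
      (mem_sup_left h)
  refine ⟨?_, hj⟩
  by_contra hi
  refine D.xn (mem_of_zpow (pow_mem_fr (mem_top x)) hi ?_)
  have hyj : y ^ j ∈ s1 p P :=
    zpow_mem_congr (pow_mem_fr (mem_top y)) (i := 0) (by rw [hj, Int.cast_zero]) (by simp)
  simpa using mul_mem h (inv_mem hyj)

/-- A characteristic subgroup over `s1` containing `x` is everything. -/
theorem eq_top_of_mem {K : Subgroup P} (h1 : s1 p P ≤ K) (hinv : ∀ α : MulAut P, ∀ g ∈ K, α g ∈ K)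
    (hx : x ∈ K) : K = ⊤ :=
  (D.dich K h1 hinv).resolve_left fun h => D.xn (h hx)

/-- What is central on the generators modulo `K` is central modulo `K`. -/
theorem central_of {K : Subgroup P} [K.Normal] {a : P} (hx : ⁅a, x⁆ ∈ K) (hy : ⁅a, y⁆ ∈ K) (g : P) :
    ⁅a, g⁆ ∈ K := by
  set π := QuotientGroup.mk' K
  have key : ∀ g, ⁅a, g⁆ ∈ K ↔ g ∈ (centralizer ({π a} : Set (P ⧸ K))).comap π := fun g => by
    rw [comm_mem_iff, mem_comap, mem_centralizer_singleton_iff]
    exact ⟨fun h => h.eq.symm, fun h => h.symm⟩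
  rw [key]
  refine (?_ : (⊤ : Subgroup P) ≤ _) (mem_top g)
  rw [← D.closure_eq_top hP, closure_le]
  rintro b (rfl | rfl)
  exacts [(key _).1 hx, (key _).1 hy]

/-- The commutator subgroup with the second step. -/
theorem pow_x_mem (h5 : 5 ≤ p) :
    x ^ p ∈ ⁅(⊤ : Subgroup P), (⊤ : Subgroup P)⁆ ⊔ s2 p P := by
  set K := ⁅(⊤ : Subgroup P), (⊤ : Subgroup P)⁆ ⊔ s2 p P with hK
  set π := QuotientGroup.mk' K with hπ
  have hab : ∀ a b : P, Commute (π a) (π b) := fun a b =>
    commute_mk' (mem_sup_left (commutator_mem_commutator (mem_top a) (mem_top b)))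
  have hfp : ∀ f ∈ s1 p P, π f ^ p = 1 := fun f hf => by
    rw [← map_pow]; exact mk'_eq_one.2 (mem_sup_right (pow_mem_dn hf))
  have hKσ : K.map σ.toMonoidHom = K := by
    rw [hK, Subgroup.map_sup, map_commutator, map_s2, map_top_of_surjective _ σ.surjective]
  have hroot : ∀ f ∈ s1 p P, ∃ g, π f = π g ^ p := by
    intro f hf
    let ψ : P →* P ⧸ K :=
      { toFun := fun g => π g ^ p
        map_one' := by simp
        map_mul' := fun a b => by rw [map_mul, (hab a b).mul_pow] }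
    obtain ⟨g, hg⟩ : π f ∈ ψ.range := by
      refine (show s1 p P ≤ ψ.range.comap π from fr_le_of (fun g _ => ⟨g, (map_pow π g p).symm⟩)
        fun a _ b _ => ?_) hf
      rw [mem_comap, show π ⁅a, b⁆ = 1 from
        mk'_eq_one.2 (mem_sup_left (commutator_mem_commutator (mem_top a) (mem_top b)))]
      exact one_mem _
    exact ⟨g, hg.symm⟩
  -- the displacements
  obtain ⟨f, hfs, hfdef⟩ : ∃ f ∈ s1 p P, σ x = x * f := ⟨_, D.sx, (mul_inv_cancel_left _ _).symm⟩
  obtain ⟨g₀, hg₀⟩ := hroot f hfs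
  obtain ⟨f₀, hf₀, i, j, hg⟩ := D.exists_coord hP g₀
  set Y := π y
  set a := π x
  set b := π f with hbdef
  have Tπ : ∀ w z : P, π w = π z → π (σ w) = π (σ z) := fun w z h => mk_apply_eq hKσ h
  have hy : π (σ y) = Y * a := by rw [D.sy, map_mul, (hab x y).eq]
  have hx : π (σ x) = a * b := by rw [hfdef, map_mul]
  have hb : b = a ^ ((p : ℤ) * i) * Y ^ ((p : ℤ) * j) := by
    rw [hg₀, hg, map_mul, map_mul, ((hab f₀ (y ^ j)).mul_left (hab (x ^ i) (y ^ j))).mul_pow,
      (hab f₀ (x ^ i)).mul_pow, hfp f₀ hf₀, one_mul, map_zpow, map_zpow, ← zpow_natCast,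
      ← zpow_mul, ← zpow_natCast (Y ^ j), ← zpow_mul, mul_comm i, mul_comm j]
  set c := a ^ ((p : ℤ) * j) * b ^ (i * (p : ℤ)) with hc
  have hfq : b ^ (p : ℤ) = 1 := by rw [zpow_natCast]; exact hfp f hfs
  have hc' : c = a ^ ((p : ℤ) * j) := by
    rw [hc, mul_comm i, zpow_mul b, hfq, one_zpow, mul_one]
  have hσf : π (σ f) = b * c := by
    have e : π f = π (x ^ ((p : ℤ) * i) * y ^ ((p : ℤ) * j)) := by
      rw [map_mul, map_zpow, map_zpow]; exact hb
    have cab : Commute a Y := hab x y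
    have cax : Commute a b := hab x f
    have cbY : Commute b Y := hab f y
    rw [Tπ _ _ e, map_mul, map_zpow, map_zpow, map_mul π, map_zpow, map_zpow, hy, hx,
      cax.mul_zpow, cab.symm.mul_zpow, hc', mul_comm (p : ℤ) i, mul_comm i (p : ℤ), zpow_mul b, hfq,
      one_zpow, mul_one, hb, mul_assoc]
  have hσc : π (σ (x ^ ((p : ℤ) * j))) = c := by
    rw [map_zpow, map_zpow, hx, (show Commute a b from hab x f).mul_zpow, zpow_mul b, hfq, one_zpow,
      mul_one, hc']
  have hcx : π (x ^ ((p : ℤ) * j)) = c := by rw [map_zpow, hc']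
  have hcom : ∀ u v : P ⧸ K, Commute u v := fun u v =>
    QuotientGroup.induction_on u fun s => QuotientGroup.induction_on v fun t => hab s t
  letI : CommGroup (P ⧸ K) :=
    { (inferInstance : Group (P ⧸ K)) with mul_comm := fun u v => (hcom u v).eq }
  have hiter : ∀ k : ℕ, π ((σ ^ k) y) = Y * a ^ k * b ^ k.choose 2 * c ^ k.choose 3 := by
    intro k
    induction k with
    | zero => simp [Y]
    | succ k ih =>
      have e : π ((σ ^ k) y) = π (y * x ^ k * f ^ k.choose 2 * (x ^ ((p : ℤ) * j)) ^ k.choose 3) := by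
        simp only [map_mul, map_pow, hcx]; exact ih
      rw [pow_succ', MulAut.mul_apply, Tπ _ _ e]
      simp only [map_mul, map_pow, hy, hx, hσf, hσc, mul_pow]
      rw [Nat.choose_succ_succ k 1, Nat.choose_one_right,
        show (k + 1).choose 3 = k.choose 2 + k.choose 3 from Nat.choose_succ_succ k 2,
        show Nat.succ 1 = 2 from rfl, pow_succ' a, pow_add b, pow_add c]
      set u := a ^ k
      set w := b ^ k
      set w' := b ^ k.choose 2
      set z := c ^ k.choose 2
      set z' := c ^ k.choose 3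
      rw [mul_assoc (Y * a) (u * w), mul_assoc u w, ← mul_assoc w w' z]
      simp only [mul_assoc]
  have h2 : p ∣ p.choose 2 := hp.out.dvd_choose_self (by norm_num) (by omega)
  have h3 : p ∣ p.choose 3 := hp.out.dvd_choose_self (by norm_num) (by omega)
  obtain ⟨q2, hq2⟩ := h2
  obtain ⟨q3, hq3⟩ := h3
  have hend : π ((σ ^ p) y) = Y :=
    (QuotientGroup.eq.2 (mem_sup_left (D.sp y))).symm
  have hcp : c ^ p = 1 := by
    rw [← hcx, ← map_pow, mk'_eq_one]
    refine mem_sup_right (pow_mem_dn ?_)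
    rw [zpow_mul, zpow_natCast]
    exact zpow_mem (pow_mem_fr (mem_top x)) j
  rw [hiter, hq2, hq3, pow_mul, pow_mul, hfp f hfs, hcp, one_pow, one_pow, mul_one, mul_one] at hend
  rw [← mk'_eq_one, map_pow]
  exact mul_eq_left.1 hend

theorem s1_eq (h5 : 5 ≤ p) : s1 p P = ⁅(⊤ : Subgroup P), (⊤ : Subgroup P)⁆ ⊔ s2 p P := by
  set K := ⁅(⊤ : Subgroup P), (⊤ : Subgroup P)⁆ ⊔ s2 p P with hK
  set π := QuotientGroup.mk' K
  have hab : ∀ a b : P, Commute (π a) (π b) := fun a b =>
    commute_mk' (mem_sup_left (commutator_mem_commutator (mem_top a) (mem_top b)))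
  let W : Subgroup P :=
    { carrier := {g | π g ^ p = 1}
      one_mem' := by simp
      mul_mem' := fun {a b} ha hb => by
        simp only [Set.mem_setOf_eq] at *; rw [map_mul, (hab a b).mul_pow, ha, hb, one_mul]
      inv_mem' := fun {a} ha => by simp only [Set.mem_setOf_eq] at *; rw [map_inv, inv_pow, ha, inv_one] }
  have hW : ∀ g, g ∈ W ↔ g ^ p ∈ K := fun g => by
    show π g ^ p = 1 ↔ _
    rw [← map_pow, mk'_eq_one]
  have htop : W = ⊤ := by
    refine D.eq_top_of_mem hP (fun g hg => (hW g).2 (mem_sup_right (pow_mem_dn hg)))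
      (fun α g hg => (hW _).2 ?_) ((hW x).2 (D.pow_x_mem hP h5))
    rw [← map_pow]
    exact apply_mem_of_map (by
      rw [hK, Subgroup.map_sup, map_commutator, map_s2, map_top_of_surjective _ α.surjective])
      ((hW g).1 hg)
  exact le_antisymm
    (fr_le_of (fun g _ => (hW g).1 (htop ▸ mem_top g))
      fun a _ b _ => mem_sup_left (commutator_mem_commutator (mem_top a) (mem_top b)))
    (sup_le (commutator_le.2 fun a _ b _ => comm_mem_fr (mem_top a) (mem_top b)) dn_le)

theorem s1_eq_c (h5 : 5 ≤ p) : s1 p P = s2 p P ⊔ zpowers ⁅x, y⁆ := by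
  refine le_antisymm ?_ (sup_le dn_le (zpowers_le.2 (comm_mem_fr (mem_top _) (mem_top _))))
  set c := ⁅x, y⁆ with hc
  haveI : (s2 p P ⊔ zpowers c).Normal := ⟨fun n hn g => by
    rw [conj_eq_comm_mul]
    exact mul_mem (mem_sup_left (comm_mem_dn' (sup_le dn_le (zpowers_le.2
      (comm_mem_fr (mem_top _) (mem_top _))) hn) g)) hn⟩
  rw [D.s1_eq hP h5]
  refine sup_le (commutator_le.2 fun a _ b _ => ?_) le_sup_left
  refine comm_mem_of_gen (s := {x, y}) ?_ (mem_sup_right ((D.closure_eq_top hP).ge (mem_top a)))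
    (mem_sup_right ((D.closure_eq_top hP).ge (mem_top b)))
  have hcm : c ∈ s2 p P ⊔ zpowers c := mem_sup_right (mem_zpowers c)
  rintro a (rfl | rfl) b (rfl | rfl)
  all_goals first
    | (rw [commutatorElement_self]; exact one_mem _)
    | exact hcm
    | (rw [← commutatorElement_inv]; exact inv_mem hcm)

end NData

end Cfsg.Agent.Lib.RankThreePearl69
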