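import Cfsg.Agent.Lib.RankThreePearl69.TwoGroup
import Cfsg.Agent.Lib.RankThreeEss69.Setup
import Cfsg.Agent.Lib.Fusion87.EssentialSmall

/-!
Essential subgroups with two generators: pearls, or normal of index `p` in a group of order `p ^ 6`.
-/

set_option autoImplicit false
set_option linter.unusedSectionVars false

namespace Cfsg.Agent.Lib.RankThreePearl69

open Cfsg Cfsg.FusionSystem Cfsg.Agent.Lib.Fusion Cfsg.Agent.Lib.Fusion87 Cfsg.Agent.Lib.FusionOrderFive
  Cfsg.Agent.Lib.RankThreeEss69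
open scoped commutatorElement

universe u

variable {Ω : Type u} [Group Ω] {S : Subgroup Ω} [Finite S] {F : FusionSystem S} {p : ℕ}
  [hp : Fact p.Prime]

/-- Elementary abelian of order `p ^ 2`, or extraspecial of order `p ^ 3` and exponent `p`. -/
def IsPearlShape (p : ℕ) (E : Subgroup Ω) : Prop :=
  (Cfsg.IsElementaryAbelian p E ∧ Nat.card E = p ^ 2) ∨
    (Cfsg.IsExtraspecial p ↥E ∧ Nat.card E = p ^ 3 ∧ ∀ x ∈ E, x ^ p = 1)

variable (hS : IsPGroup p S) (hF : F.IsSaturated p) {E : Subgroup Ω} (hE : F.IsEssential p E)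
  (h5 : 5 ≤ p) (hrk : (frattini E).index = p ^ 2)
include hS hF hE h5 hrk

theorem dich_char (K : Subgroup E) (h1 : s1 p E ≤ K) (hinv : ∀ α : MulAut E, ∀ g ∈ K, α g ∈ K) :
    K ≤ s1 p E ∨ K = ⊤ := by
  haveI := finite_of_le hE.1.1
  have hPp := hS.to_le hE.1.1
  by_contra hcon
  push Not at hcon
  rw [s1, fr_top_eq_frattini hPp] at h1 hcon
  haveI : K.Normal := ⟨fun n hn g => hinv (MulAut.conj g) n hn⟩
  obtain ⟨i, hi⟩ := hPp.index K
  obtain ⟨j, hj⟩ := (hPp.to_subgroup K).index ((frattini E).subgroupOf K)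
  have hmul := Subgroup.relIndex_mul_index h1
  rw [Subgroup.relIndex, hj, hi, hrk, ← pow_add] at hmul
  have hij := Nat.pow_right_injective hp.out.two_le hmul
  have hi0 : i ≠ 0 := fun h0 => hcon.2 (Subgroup.index_eq_one.1 (by rw [hi, h0, pow_zero]))
  have hj0 : j ≠ 0 := fun h0 => hcon.1 (Subgroup.relIndex_eq_one.1 (by
    rw [Subgroup.relIndex, hj, h0, pow_zero]))
  refine RankTwoAut.false_of_invariant hS hF hE h1 ?_ ?_ fun α _ w hw => hinv α w hw
  · rw [hi, show i = 1 by omega, pow_one]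
  · rw [Subgroup.relIndex, hj, show j = 1 by omega, pow_one]

/-- The shape of a two-generated essential subgroup. -/
theorem exists_gdata (hnp : ¬ IsPearlShape p E) : ∃ (r : normalizerIn S E)
    (σ : MulAut (E.subgroupOf (normalizerIn S E))) (x y : E.subgroupOf (normalizerIn S E)),
    GData p (E.subgroupOf (normalizerIn S E)) r σ x y := by
  classical
  have hES := hE.1.1
  haveI := finite_of_le hES
  haveI := finite_normalizerIn (S := S) E
  have hp2 : p ≠ 2 := by omega
  have hPp := hS.to_le hES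
  set N := normalizerIn S E with hN
  have hEN : E ≤ N := le_normalizerIn hES
  have hG : IsPGroup p N := hS.to_le inf_le_left
  set Eb := E.subgroupOf N with hEb
  set eq := Subgroup.subgroupOfEquivOfLe hEN with heq
  haveI hn : Eb.Normal := Subgroup.normal_subgroupOf_of_le_normalizer inf_le_right
  have hc : Nat.card Eb = Nat.card E := Nat.card_congr eq.toEquiv
  have hidx : Eb.index = p := by
    have h := Eb.card_mul_index
    rw [hc, card_normalizer_of hS hF hE hp2 (Or.inl hrk)] at h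
    exact Nat.eq_of_mul_eq_mul_left Nat.card_pos h
  obtain ⟨r, -, hr⟩ : ∃ r ∈ (⊤ : Subgroup N), r ∉ Eb := SetLike.exists_of_lt (lt_top_iff_ne_top.2
    fun h => hp.out.ne_one (by rw [← hidx, h, Subgroup.index_top]))
  set a := conjAut E (r : Ω) r.2.2 with ha
  set t := quotHom E a with ht
  have ht1 : t ≠ 1 := fun h => hr (mem_of_trivial hS hF hE r.2.1 r.2.2 h)
  obtain ⟨k, hk⟩ := hG r
  have hak : a ^ p ^ k = 1 := by
    rw [ha, map_conjAut_pow]
    refine MulEquiv.ext fun w => Subtype.ext ?_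
    rw [conjAut_apply, show (r : Ω) ^ p ^ k = 1 by simpa using congrArg Subtype.val hk]
    simp
  have htT : IsPGroup p (Subgroup.zpowers t) := fun z => ⟨k, by
    obtain ⟨_, i, rfl⟩ := z
    refine Subtype.ext ?_
    show (t ^ i) ^ p ^ k = 1
    rw [← zpow_natCast, ← zpow_mul, mul_comm, zpow_mul, zpow_natCast, ht, ← map_pow, hak, map_one,
      one_zpow]⟩
  have h2 : Nat.card (E ⧸ frattini E) = p ^ 2 := by rw [← Subgroup.index_eq_card, hrk]
  obtain ⟨-, z, hz1, hz⟩ := plane_data (comm_quot hPp) h2 htT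
  obtain ⟨htz, htmove⟩ := hz t (Subgroup.mem_zpowers t)
  obtain ⟨w, hw⟩ : ∃ w, t w ≠ w := by
    by_contra hall
    push Not at hall
    exact ht1 (MulEquiv.ext hall)
  obtain ⟨yE, rfl⟩ := QuotientGroup.mk_surjective w
  set xE := a yE * yE⁻¹ with hxE
  obtain ⟨i, hi⟩ := htmove (yE : E ⧸ frattini E)
  have hxz : (xE : E ⧸ frattini E) = z ^ i := by
    rw [hxE, QuotientGroup.mk_mul, ← quotHom_mk, ← ht, hi, comm_quot hPp (yE : E ⧸ frattini E),
      QuotientGroup.mk_inv, mul_inv_cancel_right]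
  have hpow := pow_quot hPp
  have hxn : xE ∉ frattini E := fun h => hw (by
    rw [hi, ← hxz, (QuotientGroup.eq_one_iff _).2 h, mul_one])
  have hxfix : t (xE : E ⧸ frattini E) = xE := by rw [hxz, map_zpow, htz]
  set σ : MulAut Eb := MulAut.congr eq.symm a with hσ
  set x := eq.symm xE
  set y := eq.symm yE
  have hfr : ∀ w : E, eq.symm w ∈ s1 p Eb ↔ w ∈ frattini E := fun w => by
    rw [s1, ← fr_top_eq_frattini hPp, ← Subgroup.mem_map_iff_mem (f := eq.symm.toMonoidHom)
      eq.symm.injective, map_fr, Subgroup.map_top_of_surjective _ eq.symm.surjective]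
    rfl
  have hσe : ∀ w : E, σ (eq.symm w) = eq.symm (a w) := fun w => by simp [hσ, MulAut.congr]
  have hact : ∀ e : Eb, (σ e : N) = r * e * r⁻¹ := fun e => Subtype.ext rfl
  have hxN : x ∉ s1 p Eb := fun h => hxn ((hfr xE).1 h)
  haveI : (s1 p Eb ⊔ Subgroup.zpowers x).Normal := ⟨fun n hn g => by
    rw [conj_eq_comm_mul]
    exact mul_mem (Subgroup.mem_sup_left (comm_mem_fr (Subgroup.mem_top _) (Subgroup.mem_top _))) hn⟩
  have D : NData p σ x y := by
    refine ⟨?_, ?_, ?_, ?_, hxN, ?_, ?_, ⟨k, ?_⟩⟩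
    · rw [hc, ← (frattini E).card_mul_index, hrk]
      congr 1
      rw [← fr_top_eq_frattini hPp, s1,
        ← Subgroup.card_map_of_injective (K := fr p (⊤ : Subgroup E)) (f := eq.symm.toMonoidHom)
          eq.symm.injective, map_fr, Subgroup.map_top_of_surjective _ eq.symm.surjective]
    · intro K h1 hinv
      rcases dich_char hS hF hE h5 hrk (K.comap eq.symm.toMonoidHom)
        (fun w hw => h1 ((hfr w).2 (by rwa [← fr_top_eq_frattini hPp])))
        (fun α w hw => by
          have h := hinv (MulAut.congr eq.symm α) _ hw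
          simpa [MulAut.congr] using h) with h | h
      · refine Or.inl fun g hg => ?_
        obtain ⟨w, rfl⟩ := eq.symm.surjective g
        exact (hfr w).2 (by rw [← fr_top_eq_frattini hPp]; exact h hg)
      · refine Or.inr ((Subgroup.eq_top_iff' _).2 fun g => ?_)
        obtain ⟨w, rfl⟩ := eq.symm.surjective g
        exact (h ▸ Subgroup.mem_top w : w ∈ K.comap eq.symm.toMonoidHom)
    · show σ (eq.symm yE) = eq.symm xE * eq.symm yE
      rw [hσe, ← map_mul, hxE, inv_mul_cancel_right]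
    · show (eq.symm xE)⁻¹ * σ (eq.symm xE) ∈ _
      rw [hσe, ← map_inv, ← map_mul, hfr, ← QuotientGroup.eq, ← quotHom_mk]
      exact hxfix.symm
    · intro h
      obtain ⟨f, hf, j, hj⟩ := exists_of_mem_sup h
      obtain ⟨f', rfl⟩ := eq.symm.surjective f
      have he : yE = f' * xE ^ j := eq.symm.injective (by rw [map_mul, map_zpow]; exact hj)
      refine hw ?_
      rw [he, QuotientGroup.mk_mul, (QuotientGroup.eq_one_iff _).2 ((hfr f').1 hf), one_mul,
        QuotientGroup.mk_zpow, map_zpow, hxfix]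
    · intro g
      have hrp : r ^ p ∈ Eb := by
        have := Subgroup.pow_index_mem Eb r; rwa [hidx] at this
      have hiter : ∀ k : ℕ, ((σ ^ k) g : N) = r ^ k * g * (r ^ k)⁻¹ := by
        intro k
        induction k with
        | zero => simp
        | succ k ih => rw [pow_succ' σ, MulAut.mul_apply, hact, ih, pow_succ' r]; group
      have e : (σ ^ p) g = (⟨r ^ p, hrp⟩ : Eb) * g * (⟨r ^ p, hrp⟩ : Eb)⁻¹ := Subtype.ext (hiter p)
      rw [e, show g⁻¹ * ((⟨r ^ p, hrp⟩ : Eb) * g * (⟨r ^ p, hrp⟩ : Eb)⁻¹) =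
        ⁅g⁻¹, (⟨r ^ p, hrp⟩ : Eb)⁆ by rw [commutatorElement_def]; group]
      exact Subgroup.commutator_mem_commutator (Subgroup.mem_top _) (Subgroup.mem_top _)
    · rw [hσ, ← map_pow, hak, map_one]
  refine ⟨r, σ, x, y, ⟨hn, hidx, hr, hact, D, fun hs2 => hnp ?_⟩⟩
  -- the second step is trivial
  have hP : IsPGroup p Eb := hG.to_subgroup Eb
  have hexp : ∀ e : E, e ^ p = 1 := fun e => eq.symm.injective (by
    rw [map_pow, map_one]; exact Subgroup.mem_bot.1 (hs2 ▸ D.pow_mem_s2 hP h5 _))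
  have hexp' : ∀ e ∈ E, e ^ p = 1 := fun e he => by simpa using congrArg Subtype.val (hexp ⟨e, he⟩)
  by_cases hab : IsMulCommutative E
  · refine Or.inl ⟨⟨hab, hexp'⟩, ?_⟩
    have hs1 : s1 p Eb = ⊥ := le_bot_iff.1 (fr_le_of (fun g _ => by
      rw [Subgroup.mem_bot]; exact Subgroup.mem_bot.1 (hs2 ▸ D.pow_mem_s2 hP h5 g)) fun g _ g' _ => by
      rw [Subgroup.mem_bot, commutatorElement_eq_one_iff_mul_comm]
      refine eq.injective ?_
      rw [map_mul, map_mul, hab.is_comm.comm])
    rw [← hc, D.card, hs1, Subgroup.card_bot, one_mul]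
  · have hcard : Nat.card E = p ^ 3 := by
      rw [← hc, D.card]
      set c := ⁅x, y⁆
      have hs1 : s1 p Eb = Subgroup.zpowers c := by rw [D.s1_eq_c hP h5, hs2, bot_sup_eq]
      have hc1 : c ≠ 1 := fun h => hab ⟨⟨fun g g' => by
        have h0 : s1 p Eb = ⊥ := by rw [hs1, h, Subgroup.zpowers_one_eq_bot]
        have h1 : ⁅eq.symm g, eq.symm g'⁆ = 1 := Subgroup.mem_bot.1 (h0 ▸
          comm_mem_fr (Subgroup.mem_top _) (Subgroup.mem_top _))
        refine eq.symm.injective ?_
        rw [map_mul, map_mul]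
        exact (commutatorElement_eq_one_iff_mul_comm.1 h1)⟩⟩
      rw [hs1, Nat.card_zpowers, orderOf_eq_prime (Subgroup.mem_bot.1 (hs2.le (pow_mem_dn
        (comm_mem_fr (Subgroup.mem_top _) (Subgroup.mem_top _))))) hc1]
      ring
    exact Or.inr ⟨Fusion87.isExtraspecial_of_card_cube hcard hab, hcard, hexp'⟩

/-- A two-generated essential subgroup which is not a pearl. -/
theorem two_facts (hsr : Cfsg.SectionalPRankLE p 3 S) (hnp : ¬ IsPearlShape p E) :
    normalizerIn S E = S ∧ Nat.card S = p ^ 6 ∧ ∃ Q : Subgroup Ω, Q ≤ E ∧ Nat.card Q = p ^ 2 ∧ Q ≠ ⊥ ∧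
      (∀ α ∈ F.autGroup E, (Q.subgroupOf E).map α.toMonoidHom = Q.subgroupOf E) ∧
      (∀ W : Subgroup S, W.Normal → Nat.card W = p ^ 2 → W.map S.subtype = Q) ∧
      ∀ γ ∈ F.autGroup S, (Q.subgroupOf S).map γ.toMonoidHom = Q.subgroupOf S := by
  classical
  have hES := hE.1.1
  haveI := finite_of_le hES
  haveI := finite_normalizerIn (S := S) E
  obtain ⟨r, σ, x, y, D⟩ := exists_gdata hS hF hE h5 hrk hnp
  set N := normalizerIn S E with hN
  have hNS : N ≤ S := inf_le_left
  have hEN : E ≤ N := le_normalizerIn hES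
  have hG : IsPGroup p N := hS.to_le hNS
  set Eb := E.subgroupOf N with hEb
  have hr3 : Cfsg.SectionalPRankLE p 3 Eb :=
    sectionalPRankLE_of_injective (rank_le_of_le hsr hNS) _ Eb.subtype_injective
  have hP : IsPGroup p Eb := hG.to_subgroup Eb
  haveI := D.normal
  set U := uSub p Eb with hU
  have hUE : U ≤ Eb := Subgroup.map_subtype_le _
  -- the normaliser is everything
  have hNeq : N = S := by
    by_contra hne
    obtain ⟨g, hg, hgN⟩ := SetLike.exists_of_lt (lt_normalizerIn hS (lt_of_le_of_ne hNS hne))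
    refine hgN ⟨hg.1, ?_⟩
    show g ∈ Subgroup.normalizer (E : Set Ω)
    rw [← map_bar_eq_iff hEN hg.2]
    set γ := conjAut N g hg.2
    refine Subgroup.eq_of_le_of_card_ge ?_ (Subgroup.card_map_of_injective γ.injective).ge
    rintro _ ⟨e, he, rfl⟩
    refine D.mem_of_centralizes hG h5 hr3 fun w hw => ?_
    have hγU : U.map γ.toMonoidHom = U := by
      rw [hU, D.u_eq hG h5 hr3]
      simp only [Subgroup.map_commutator]
      rw [Subgroup.map_top_of_surjective γ.toMonoidHom γ.surjective]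
    obtain ⟨w', hw', rfl⟩ := hγU.ge hw
    obtain ⟨v, hv, rfl⟩ := hw'
    exact (D.central hG h5 hr3 v hv ⟨e, he⟩).symm.map γ.toMonoidHom
  refine ⟨hNeq, ?_, U.map N.subtype, ?_, (Subgroup.card_map_of_injective N.subtype_injective).trans (D.card_u hG h5 hr3), ?_, ?_, ?_, ?_⟩
  · have hcN : Nat.card N = Nat.card Eb * p := by rw [← Eb.card_mul_index, D.index]
    have hs2 : Nat.card (s2 p Eb) = p ^ 2 := by
      rw [← D.card_u hG h5 hr3, uSub, Subgroup.card_map_of_injective Eb.subtype_injective]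
    have hs1 : Nat.card (s1 p Eb) = p ^ 2 * p := by
      rw [D.data.s1_eq_c hP h5, card_sup_zpowers_eq hP (pow_mem_dn
        (comm_mem_fr (Subgroup.mem_top _) (Subgroup.mem_top _))) ?_, hs2]
      intro h
      exact D.ne (le_bot_iff.1 (dn_le.trans (le_bot_of_le_dn hP
        ((D.data.s1_eq_c hP h5).le.trans (sup_le le_rfl (Subgroup.zpowers_le.2 h)))).le))
    rw [← hNeq, hcN, D.data.card, hs1]; ring
  · rintro _ ⟨w, hw, rfl⟩; exact hUE hw
  · intro h
    rw [Subgroup.map_eq_bot_iff_of_injective _ N.subtype_injective] at h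
    have := D.card_u hG h5 hr3
    rw [← hU, h, Subgroup.card_bot] at this
    exact (Nat.one_lt_pow two_ne_zero hp.out.one_lt).ne this
  · intro α _
    set eq := Subgroup.subgroupOfEquivOfLe hEN
    have e : (U.map N.subtype).subgroupOf E = (s2 p Eb).map eq.toMonoidHom := by
      ext w
      constructor
      · rintro ⟨_, ⟨v, hv, rfl⟩, hw⟩
        exact ⟨v, hv, Subtype.ext hw⟩
      · rintro ⟨v, hv, rfl⟩
        exact ⟨Eb.subtype v, Subgroup.mem_map_of_mem _ hv, rfl⟩
    rw [e, Subgroup.map_map]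
    have e2 : α.toMonoidHom.comp eq.toMonoidHom =
        eq.toMonoidHom.comp (MulAut.congr eq.symm α).toMonoidHom := MonoidHom.ext fun w => by
      show α (eq w) = eq (eq.symm (α (eq w)))
      rw [MulEquiv.apply_symm_apply]
    rw [e2, ← Subgroup.map_map, map_s2]
  · intro W hW hWc
    set i := Subgroup.inclusion hNS
    have hWN : (W.comap i).Normal := inferInstance
    have hcard : Nat.card (W.comap i) = p ^ 2 := by
      rw [← hWc]
      refine Nat.card_congr (Equiv.ofBijective (fun w => (⟨i w.1, w.2⟩ : W)) ⟨fun a b h =>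
        Subtype.ext (Subgroup.inclusion_injective hNS (congrArg Subtype.val h)), fun w =>
        ⟨⟨⟨(w : S), hNeq.ge (w : S).2⟩, w.2⟩, rfl⟩⟩)
    rw [← (D.eq_u_of_normal hG h5 hr3 hcard).trans hU.symm]
    ext w
    constructor
    · rintro ⟨v, hv, rfl⟩
      exact ⟨⟨v, hNeq.ge v.2⟩, hv, rfl⟩
    · rintro ⟨v, hv, rfl⟩
      exact ⟨i v, hv, rfl⟩
  · intro γ _
    have e : (U.map N.subtype).subgroupOf S = U.map (Subgroup.inclusion hNS) := by
      ext w
      constructor
      · rintro ⟨v, hv, hw⟩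
        exact ⟨v, hv, Subtype.ext hw⟩
      · rintro ⟨v, hv, rfl⟩
        exact ⟨v, hv, rfl⟩
    rw [e, hU, D.u_eq hG h5 hr3]
    have htop : (⊤ : Subgroup N).map (Subgroup.inclusion hNS) = ⊤ :=
      Subgroup.map_top_of_surjective _ fun w => ⟨⟨w, hNeq.ge w.2⟩, rfl⟩
    simp only [Subgroup.map_commutator, htop]
    rw [Subgroup.map_top_of_surjective γ.toMonoidHom γ.surjective]

end Cfsg.Agent.Lib.RankThreePearl69
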