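import Cfsg.Agent.Lib.RankThreePearl69.Layers

/-!
The overgroup of index `p`: the second step of `E` is the only normal subgroup of order `p ^ 2`.
-/

set_option autoImplicit false
set_option linter.unusedSectionVars false

namespace Cfsg.Agent.Lib.RankThreePearl69

open Subgroup Cfsg.Agent.Lib.RankThreeEss69
open scoped commutatorElement

variable {G : Type*} [Group G] {p : ℕ} {E : Subgroup G}

/-- The second step of `E`, in the overgroup. -/
def uSub (p : ℕ) (E : Subgroup G) : Subgroup G := (s2 p E).map E.subtype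

/-- The data of a subgroup of index `p`. -/
structure GData (p : ℕ) (E : Subgroup G) (r : G) (σ : MulAut E) (x y : E) : Prop where
  normal : E.Normal
  index : E.index = p
  rE : r ∉ E
  act : ∀ e : E, (σ e : G) = r * e * r⁻¹
  data : NData p σ x y
  ne : s2 p E ≠ ⊥

theorem mk_commute {K : Subgroup E} [(K.map E.subtype).Normal] (a b : E) (h : ⁅a, b⁆ ∈ K) :
    Commute (QuotientGroup.mk' (K.map E.subtype) (a : G)) (QuotientGroup.mk' (K.map E.subtype) (b : G)) :=
  commute_mk' ⟨⁅a, b⁆, h, map_commutatorElement E.subtype a b⟩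

namespace GData

variable {r : G} {σ : MulAut E} {x y : E} [hp : Fact p.Prime] [Finite G] (hG : IsPGroup p G)
  (D : GData p E r σ x y) (h5 : 5 ≤ p) (hr : Cfsg.SectionalPRankLE p 3 E)
include hG D h5 hr

theorem central (w : E) (hw : w ∈ s2 p E) (g : E) : Commute (w : G) (g : G) := by
  have hb := D.data.s3_eq_bot (hG.to_subgroup E) h5 hr
  have h : ⁅w, g⁆ = 1 := mem_bot.1 (hb ▸ comm_mem_dn hw g)
  exact congrArg Subtype.val (commutatorElement_eq_one_iff_commute.1 h).eq

theorem pow_one' (w : E) (hw : w ∈ s2 p E) : w ^ p = 1 :=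
  mem_bot.1 (D.data.s3_eq_bot (hG.to_subgroup E) h5 hr ▸ pow_mem_dn hw)

theorem cast_coe_eq {i j : ℤ} (h : ⁅⁅x, y⁆, x⁆ ^ i * ⁅⁅x, y⁆, y⁆ ^ j = 1) :
    (i : ZMod p) = 0 ∧ (j : ZMod p) = 0 :=
  D.data.uv_indep (hG.to_subgroup E) h5 D.ne (h ▸ one_mem _)

theorem gen_u : s2 p E = closure {⁅⁅x, y⁆, x⁆, ⁅⁅x, y⁆, y⁆} := by
  refine le_antisymm ((D.data.gen_s2 (hG.to_subgroup E) h5).trans (by
    rw [D.data.s3_eq_bot (hG.to_subgroup E) h5 hr, bot_sup_eq])) ((closure_le _).2 ?_)
  have hc1 : ⁅x, y⁆ ∈ s1 p E := comm_mem_fr (mem_top _) (mem_top _)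
  rintro w (rfl | rfl) <;> exact comm_mem_dn hc1 _

theorem c_comm (f : E) (hf : f ∈ s1 p E) : Commute f ⁅x, y⁆ := by
  obtain ⟨w, hw, i, rfl⟩ := D.data.exists_c (hG.to_subgroup E) h5 hf
  exact Commute.mul_left (Subtype.ext (D.central hG h5 hr w hw _).eq) ((Commute.refl _).zpow_left i)

theorem σ_c : ∃ w ∈ s2 p E, σ ⁅x, y⁆ = ⁅x, y⁆ * w := by
  set π := QuotientGroup.mk' (s2 p E)
  have cen2 : ∀ f ∈ s1 p E, ∀ g, Commute (π f) (π g) := fun f hf g => commute_mk' (comm_mem_dn hf g)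
  have hfc : ∀ g : E ⧸ s2 p E, ⁅π (x⁻¹ * σ x), g⁆ = 1 := fun g => QuotientGroup.induction_on g fun g =>
    commutatorElement_eq_one_iff_commute.2 (cen2 _ D.data.sx g)
  refine ⟨⁅x, y⁆⁻¹ * σ ⁅x, y⁆, QuotientGroup.eq.1 ?_, (mul_inv_cancel_left _ _).symm⟩
  show π _ = π _
  symm
  rw [map_comm_eq, map_commutatorElement, D.data.sy,
    show σ x = x * (x⁻¹ * σ x) by group, map_mul π x y, map_mul,
    comm_mul_left_of (by rw [hfc]; exact Commute.one_right _) (by rw [hfc]; exact Commute.one_left _),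
    hfc, mul_one, comm_mul_right_of, commutatorElement_self, one_mul, ← map_commutatorElement]
  rw [← map_commutatorElement]
  exact (cen2 _ (comm_mem_fr (mem_top _) (mem_top _)) _).symm

theorem σ_uv : σ ⁅⁅x, y⁆, x⁆ = ⁅⁅x, y⁆, x⁆ ∧
    σ ⁅⁅x, y⁆, y⁆ = ⁅⁅x, y⁆, x⁆ * ⁅⁅x, y⁆, y⁆ := by
  obtain ⟨w, hw, hσc⟩ := D.σ_c hG h5 hr
  have hc1 : ⁅x, y⁆ ∈ s1 p E := comm_mem_fr (mem_top _) (mem_top _)
  have cen : ∀ a ∈ s2 p E, ∀ g : E, Commute a g := fun a ha g => Subtype.ext (D.central hG h5 hr a ha g).eq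
  have h1 : ∀ g, ⁅σ ⁅x, y⁆, g⁆ = ⁅⁅x, y⁆, g⁆ := fun g => by
    rw [hσc, comm_mul_left_of, commutatorElement_eq_one_iff_commute.2 (cen w hw g), mul_one]
    · rw [commutatorElement_eq_one_iff_commute.2 (cen w hw g)]; exact Commute.one_right _
    · rw [commutatorElement_eq_one_iff_commute.2 (cen w hw g)]; exact Commute.one_left _
  constructor
  · rw [map_comm_eq, h1, show σ x = x * (x⁻¹ * σ x) by group,
      comm_mul_right_of (cen _ (comm_mem_dn hc1 _) x).symm,
      commutatorElement_eq_one_iff_commute.2 (D.c_comm hG h5 hr _ D.data.sx).symm, mul_one]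
  · rw [map_comm_eq, h1, D.data.sy, comm_mul_right_of (cen _ (comm_mem_dn hc1 _) x).symm]

theorem card_u : Nat.card (uSub p E) = p ^ 2 := by
  have hP := hG.to_subgroup E
  have hb := D.data.s3_eq_bot hP h5 hr
  set u := ⁅⁅x, y⁆, x⁆
  set v := ⁅⁅x, y⁆, y⁆
  have huS : u ∈ s2 p E := comm_mem_dn (comm_mem_fr (mem_top _) (mem_top _)) _
  have hvS : v ∈ s2 p E := comm_mem_dn (comm_mem_fr (mem_top _) (mem_top _)) _
  haveI : (zpowers u).Normal := ⟨fun n hn g => by
    obtain ⟨i, rfl⟩ := mem_zpowers_iff.1 hn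
    rw [show g * u ^ i * g⁻¹ = u ^ i by
      rw [(((show Commute u g from Subtype.ext (D.central hG h5 hr u huS g).eq)).zpow_left i).eq.symm,
        mul_inv_cancel_right]]
    exact zpow_mem (mem_zpowers u) i⟩
  have hu1 : u ≠ 1 := fun h => one_ne_zero (α := ZMod p) (by
    simpa using (D.cast_coe_eq hG h5 hr (i := 1) (j := 0) (by rw [zpow_one, zpow_zero, mul_one]; exact h)).1)
  have hv : v ∉ zpowers u := fun h => by
    obtain ⟨i, hi⟩ := mem_zpowers_iff.1 h
    exact one_ne_zero (α := ZMod p) (by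
      simpa using (D.cast_coe_eq hG h5 hr (i := -i) (j := 1) (by
        show u ^ (-i) * v ^ (1 : ℤ) = 1
        rw [zpow_one, ← hi, ← zpow_add, neg_add_cancel, zpow_zero])).2)
  rw [uSub, card_map_of_injective E.subtype_injective, D.gen_u hG h5 hr,
    show closure ({u, v} : Set E) = zpowers u ⊔ zpowers v by
      rw [zpowers_eq_closure, zpowers_eq_closure, ← Subgroup.closure_union, Set.singleton_union],
    card_sup_zpowers_eq hP (by rw [D.pow_one' hG h5 hr v hvS]; exact one_mem _) hv, Nat.card_zpowers,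
    orderOf_eq_prime (D.pow_one' hG h5 hr u huS) hu1, sq]

theorem top_eq : (⊤ : Subgroup G) = E ⊔ zpowers r := by
  haveI := D.normal
  refine ((eq_top_of_le_card _ ?_)).symm
  have h := E.card_mul_index
  rw [D.index] at h
  rw [← h]
  exact card_mul_le' hG (lt_of_le_of_ne le_sup_left fun e => D.rE (e.ge (mem_sup_right (mem_zpowers r))))

/-- Membership of a commutator with the image of a `σ`-invariant step. -/
theorem comm_r {H K : Subgroup E} [K.Normal] (h : ∀ e ∈ H, (e⁻¹ * σ e) ∈ K) {e : E} (he : e ∈ H) :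
    ⁅r, (e : G)⁆ ∈ K.map E.subtype := by
  refine ⟨σ e * e⁻¹, ?_, ?_⟩
  · rw [show σ e * e⁻¹ = e * (e⁻¹ * σ e) * e⁻¹ by group]
    exact Normal.conj_mem inferInstance _ (h e he) _
  · show (σ e : G) * (e : G)⁻¹ = _
    rw [D.act, commutatorElement_def]

theorem normal_map {K : Subgroup E} [K.Normal] (hK : ∀ α : MulAut E, ∀ e ∈ K, α e ∈ K) :
    (K.map E.subtype).Normal := by
  haveI := D.normal
  refine ⟨?_⟩
  rintro _ ⟨e, he, rfl⟩ g
  exact ⟨MulAut.conjNormal g e, hK _ e he, MulAut.conjNormal_apply g e⟩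

theorem normal_u : (uSub p E).Normal :=
  D.normal_map hG h5 hr fun α _ he => apply_mem_of_map (map_s2 α) he

/-- The fourth term of the lower central series. -/
theorem u_eq : uSub p E = ⁅⁅⁅(⊤ : Subgroup G), (⊤ : Subgroup G)⁆, (⊤ : Subgroup G)⁆, (⊤ : Subgroup G)⁆ := by
  haveI := D.normal
  have hP := hG.to_subgroup E
  set γ2 := ⁅(⊤ : Subgroup G), (⊤ : Subgroup G)⁆
  set γ3 := ⁅γ2, (⊤ : Subgroup G)⁆
  set c := ⁅x, y⁆ with hc
  have hx : ⁅r, (y : G)⁆ = (x : G) := by
    rw [commutatorElement_def, ← D.act, D.data.sy, Subgroup.coe_mul, mul_inv_cancel_right]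
  obtain ⟨w, hw, hσc⟩ := D.σ_c hG h5 hr
  obtain ⟨hσu, hσv⟩ := D.σ_uv hG h5 hr
  haveI hU := D.normal_u hG h5 hr
  haveI hΦ : ((s1 p E).map E.subtype).Normal :=
    D.normal_map hG h5 hr fun α _ he => apply_mem_of_map (map_s1 α) he
  refine le_antisymm ?_ ?_
  · -- the generators
    have hv : ((⁅c, y⁆ : E) : G) ∈ ⁅γ3, (⊤ : Subgroup G)⁆ := by
      show E.subtype ⁅c, y⁆ ∈ _
      rw [map_commutatorElement]
      refine commutator_mem_commutator ?_ (mem_top _)
      show E.subtype ⁅x, y⁆ ∈ γ3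
      rw [map_commutatorElement]
      refine commutator_mem_commutator ?_ (mem_top _)
      show (x : G) ∈ γ2
      rw [← hx]
      exact commutator_mem_commutator (mem_top _) (mem_top _)
    have hu : ((⁅c, x⁆ : E) : G) ∈ ⁅γ3, (⊤ : Subgroup G)⁆ := by
      have h : ((⁅c, x⁆ : E) : G) = ⁅r, ((⁅c, y⁆ : E) : G)⁆ := by
        rw [commutatorElement_def r, ← D.act, hσv, Subgroup.coe_mul, mul_inv_cancel_right]
      rw [h]
      exact commutator_le_left _ _ (by
        rw [← commutatorElement_inv]; exact inv_mem (commutator_mem_commutator hv (mem_top r)))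
    rw [uSub, D.gen_u hG h5 hr, MonoidHom.map_closure, closure_le]
    rintro _ ⟨z, (rfl | rfl), rfl⟩
    exacts [hu, hv]
  · -- the upper bound
    set X1 := (s1 p E ⊔ zpowers x).map E.subtype with hX1
    have hE1 : E = ((s1 p E ⊔ zpowers x ⊔ zpowers y : Subgroup E)).map E.subtype := by
      rw [D.data.sup_eq_top hP, ← MonoidHom.range_eq_map, range_subtype]
    have hEgen : ∀ g : G, g ∈ X1 ⊔ closure {r, (y : G)} := fun g => by
      refine (?_ : (⊤ : Subgroup G) ≤ _) (mem_top g)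
      rw [D.top_eq hG h5 hr]
      refine sup_le ?_ ((zpowers_le.2 (subset_closure (Set.mem_insert _ _))).trans le_sup_right)
      refine hE1.le.trans ?_
      rw [Subgroup.map_sup, MonoidHom.map_zpowers]
      exact sup_le_sup le_rfl (zpowers_le.2 (subset_closure (Set.mem_insert_of_mem _ rfl)))
    have hx1 : (x : G) ∈ X1 := mem_map_of_mem _ (mem_sup_right (mem_zpowers x))
    have hxr : ⁅r, (x : G)⁆ ∈ (s1 p E).map E.subtype :=
      D.comm_r hG h5 hr (H := zpowers x) (fun e he => by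
        obtain ⟨i, rfl⟩ := mem_zpowers_iff.1 he
        rw [← mk'_eq_one, map_mul, map_inv, map_zpow σ, map_zpow, map_zpow,
          show QuotientGroup.mk' (s1 p E) (σ x) = QuotientGroup.mk' (s1 p E) x from
            (QuotientGroup.eq.2 D.data.sx).symm, inv_mul_cancel]) (mem_zpowers x)
    have hΦX : (s1 p E).map E.subtype ≤ X1 := map_mono le_sup_left
    haveI : X1.Normal := ⟨fun n hn g => by
      have hmem : ∀ g, ⁅(n : G), g⁆ ∈ X1 → g * n * g⁻¹ ∈ X1 := fun g hg => by
        rw [show g * n * g⁻¹ = ⁅(n : G), g⁆⁻¹ * n by rw [commutatorElement_inv, conj_eq_comm_mul]]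
        exact mul_mem (inv_mem hg) hn
      refine hmem g (hΦX ?_)
      rw [comm_mem_iff]
      refine (mem_centralizer_singleton_iff.1 (mem_comap.1
        ((?_ : (⊤ : Subgroup G) ≤ (centralizer ({QuotientGroup.mk' ((s1 p E).map E.subtype) n} :
          Set (G ⧸ (s1 p E).map E.subtype))).comap (QuotientGroup.mk' _)) (mem_top g)))).symm
      rw [D.top_eq hG h5 hr]
      obtain ⟨e, he, rfl⟩ := hn
      refine sup_le (fun e' he' => mem_comap.2 (mem_centralizer_singleton_iff.2 ?_))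
        (zpowers_le.2 (mem_comap.2 (mem_centralizer_singleton_iff.2 ?_)))
      · exact (mk_commute (⟨e', he'⟩ : E) e (comm_mem_fr (mem_top _) (mem_top _))).eq
      · refine (comm_mem_iff.1 ?_).eq
        refine D.comm_r hG h5 hr (H := s1 p E ⊔ zpowers x) (fun a ha => ?_) he
        obtain ⟨f, hf, i, rfl⟩ := exists_of_mem_sup ha
        rw [← mk'_eq_one, map_mul, map_inv, map_mul σ, map_zpow σ, map_mul, map_mul, map_zpow,
          map_zpow, show QuotientGroup.mk' (s1 p E) f = 1 from mk'_eq_one.2 hf,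
          show QuotientGroup.mk' (s1 p E) (σ f) = 1 from mk'_eq_one.2 (apply_mem_of_map (map_s1 σ) hf),
          show QuotientGroup.mk' (s1 p E) (σ x) = QuotientGroup.mk' (s1 p E) x from
            (QuotientGroup.eq.2 D.data.sx).symm, inv_mul_cancel]⟩
    have h2 : γ2 ≤ X1 := commutator_le.2 fun a _ b _ => comm_mem_of_gen (by
      rintro a (rfl | rfl) b (rfl | rfl)
      · rw [commutatorElement_self]; exact one_mem _
      · rw [hx]; exact hx1
      · rw [← commutatorElement_inv, hx]; exact inv_mem hx1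
      · rw [commutatorElement_self]; exact one_mem _) (hEgen a) (hEgen b)
    have h3 : γ3 ≤ (s1 p E).map E.subtype := by
      refine (commutator_mono h2 le_rfl).trans (commutator_le.2 fun a ha g _ => ?_)
      rw [comm_mem_iff]
      refine ((mem_centralizer_singleton_iff.1 (mem_comap.1
        ((?_ : (⊤ : Subgroup G) ≤ (centralizer ({QuotientGroup.mk' ((s1 p E).map E.subtype) a} :
          Set (G ⧸ (s1 p E).map E.subtype))).comap (QuotientGroup.mk' _)) (mem_top g))))).symm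
      rw [D.top_eq hG h5 hr]
      obtain ⟨e, he, rfl⟩ := ha
      refine sup_le (fun e' he' => mem_comap.2 (mem_centralizer_singleton_iff.2 ?_))
        (zpowers_le.2 (mem_comap.2 (mem_centralizer_singleton_iff.2 ?_)))
      · exact (mk_commute (⟨e', he'⟩ : E) e (comm_mem_fr (mem_top _) (mem_top _))).eq
      · refine (comm_mem_iff.1 ?_).eq
        refine D.comm_r hG h5 hr (H := s1 p E ⊔ zpowers x) (fun a ha => ?_) he
        obtain ⟨f, hf, i, rfl⟩ := exists_of_mem_sup ha
        rw [← mk'_eq_one, map_mul, map_inv, map_mul σ, map_zpow σ, map_mul, map_mul, map_zpow,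
          map_zpow, show QuotientGroup.mk' (s1 p E) f = 1 from mk'_eq_one.2 hf,
          show QuotientGroup.mk' (s1 p E) (σ f) = 1 from mk'_eq_one.2 (apply_mem_of_map (map_s1 σ) hf),
          show QuotientGroup.mk' (s1 p E) (σ x) = QuotientGroup.mk' (s1 p E) x from
            (QuotientGroup.eq.2 D.data.sx).symm, inv_mul_cancel]
    refine (commutator_mono h3 le_rfl).trans (commutator_le.2 fun a ha g _ => ?_)
    rw [comm_mem_iff]
    refine ((mem_centralizer_singleton_iff.1 (mem_comap.1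
      ((?_ : (⊤ : Subgroup G) ≤ (centralizer ({QuotientGroup.mk' (uSub p E) a} :
        Set (G ⧸ uSub p E))).comap (QuotientGroup.mk' _)) (mem_top g))))).symm
    rw [D.top_eq hG h5 hr]
    obtain ⟨e, he, rfl⟩ := ha
    refine sup_le (fun e' he' => mem_comap.2 (mem_centralizer_singleton_iff.2 ?_))
      (zpowers_le.2 (mem_comap.2 (mem_centralizer_singleton_iff.2 ?_)))
    · haveI : ((s2 p E).map E.subtype).Normal := hU
      exact (mk_commute (K := s2 p E) (⟨e', he'⟩ : E) e (comm_mem_dn' he _)).eq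
    · refine (comm_mem_iff.1 ?_).eq
      refine D.comm_r hG h5 hr (H := s1 p E) (fun a ha => ?_) he
      obtain ⟨w', hw', i, rfl⟩ := D.data.exists_c hP h5 ha
      rw [← mk'_eq_one, map_mul, map_inv, map_mul σ, map_zpow σ, hσc, map_mul, map_mul, map_zpow,
        map_zpow, map_mul, show QuotientGroup.mk' (s2 p E) w = 1 from mk'_eq_one.2 hw, mul_one,
        show QuotientGroup.mk' (s2 p E) w' = 1 from mk'_eq_one.2 hw',
        show QuotientGroup.mk' (s2 p E) (σ w') = 1 from mk'_eq_one.2 (apply_mem_of_map (map_s2 σ) hw'),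
        inv_mul_cancel]

/-- Only the elements of `E` centralise the second step. -/
theorem mem_of_centralizes {g : G} (h : ∀ a ∈ uSub p E, Commute g a) : g ∈ E := by
  haveI := D.normal
  obtain ⟨e, he, i, rfl⟩ := exists_of_mem_sup ((D.top_eq hG h5 hr).le (mem_top g))
  obtain ⟨hσu, hσv⟩ := D.σ_uv hG h5 hr
  set u := ⁅⁅x, y⁆, x⁆
  set v := ⁅⁅x, y⁆, y⁆
  have hc1 : ⁅x, y⁆ ∈ s1 p E := comm_mem_fr (mem_top _) (mem_top _)
  have huS : u ∈ s2 p E := comm_mem_dn hc1 _
  have hvS : v ∈ s2 p E := comm_mem_dn hc1 _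
  have hre : Commute (r ^ i) (v : G) := by
    have h1 := h _ (mem_map_of_mem E.subtype hvS)
    have h2 : Commute ((e : G)⁻¹) (v : G) := (D.central hG h5 hr v hvS ⟨e, he⟩).symm.inv_left
    simpa using h2.mul_left h1
  have hu : Commute r (u : G) := by
    have h1 := D.act u
    rw [hσu] at h1
    exact mul_inv_eq_iff_eq_mul.1 h1.symm
  have hv : r * (v : G) * r⁻¹ = (u : G) * v := by rw [← D.act, hσv, Subgroup.coe_mul]
  have key : ∀ k : ℤ, r ^ k * (v : G) * (r ^ k)⁻¹ = (u : G) ^ k * v := by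
    intro k
    induction k using Int.induction_on with
    | zero => simp
    | succ k ih =>
      rw [zpow_add_one, show r ^ (k : ℤ) * r * (v : G) * (r ^ (k : ℤ) * r)⁻¹ =
        r ^ (k : ℤ) * (r * v * r⁻¹) * (r ^ (k : ℤ))⁻¹ by group, hv,
        show r ^ (k : ℤ) * ((u : G) * v) * (r ^ (k : ℤ))⁻¹ =
          r ^ (k : ℤ) * u * (r ^ (k : ℤ))⁻¹ * (r ^ (k : ℤ) * v * (r ^ (k : ℤ))⁻¹) by group, ih,
        (hu.zpow_left _).eq, mul_inv_cancel_right, zpow_add_one, ← mul_assoc,
        (Commute.self_zpow (u : G) _).eq]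
    | pred k ih =>
      have hi : r⁻¹ * (v : G) * r = (u : G)⁻¹ * v := by
        calc r⁻¹ * (v : G) * r = r⁻¹ * (u : G)⁻¹ * ((u : G) * v) * r := by group
          _ = r⁻¹ * (u : G)⁻¹ * (r * v * r⁻¹) * r := by rw [hv]
          _ = (u : G)⁻¹ * v := by rw [hu.inv_left.inv_right.eq]; group
      rw [zpow_sub_one, show r ^ (-(k : ℤ)) * r⁻¹ * (v : G) * (r ^ (-(k : ℤ)) * r⁻¹)⁻¹ =
        r ^ (-(k : ℤ)) * (r⁻¹ * v * r) * (r ^ (-(k : ℤ)))⁻¹ by group, hi,
        show r ^ (-(k : ℤ)) * ((u : G)⁻¹ * v) * (r ^ (-(k : ℤ)))⁻¹ =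
          r ^ (-(k : ℤ)) * (u : G)⁻¹ * (r ^ (-(k : ℤ)))⁻¹ * (r ^ (-(k : ℤ)) * v * (r ^ (-(k : ℤ)))⁻¹) by
            group, ih,
        (hu.inv_right.zpow_left _).eq, mul_inv_cancel_right, zpow_sub_one, ← mul_assoc,
        ((Commute.self_zpow (u : G) _).inv_left).eq]
  have h3 : (u : G) ^ i = 1 := by
    have h4 := key i
    rw [hre.eq, mul_inv_cancel_right] at h4
    exact mul_eq_right.1 h4.symm
  have hi : (i : ZMod p) = 0 := (D.cast_coe_eq hG h5 hr (i := i) (j := 0) (by
    rw [zpow_zero, mul_one]; exact Subtype.ext (by simpa using h3))).1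
  exact mul_mem he (zpow_mem_congr (H := E) (by
    have := Subgroup.pow_index_mem E r; rwa [D.index] at this) (i := 0) (by rw [hi, Int.cast_zero]) (by simp))

/-- The only normal subgroup of order `p ^ 2`. -/
theorem eq_u_of_normal {W : Subgroup G} [W.Normal] (hW : Nat.card W = p ^ 2) : W = uSub p E := by
  haveI := D.normal
  have hP := hG.to_subgroup E
  set γ2 := ⁅(⊤ : Subgroup G), (⊤ : Subgroup G)⁆
  have hWW : ⁅⁅W, (⊤ : Subgroup G)⁆, (⊤ : Subgroup G)⁆ = ⊥ := by
    have hne : W ≠ ⊥ := fun e => by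
      rw [e, card_bot] at hW
      exact (Nat.one_lt_pow two_ne_zero hp.out.one_lt).ne hW
    have hlt : ⁅W, (⊤ : Subgroup G)⁆ < W := lt_of_le_of_ne (commutator_le_left _ _) fun e =>
      hne (le_bot_iff.1 (le_of_le_comm_sup hG (by rw [sup_bot_eq]; exact e.ge)))
    refine le_bot_iff.1 (comm_le_of_card_le hG bot_le ?_)
    rw [card_bot, one_mul]
    have h := card_mul_le' hG hlt
    rw [hW, sq] at h
    exact Nat.le_of_mul_le_mul_right h hp.out.pos
  have hc2 : ∀ d ∈ γ2, ∀ w ∈ W, Commute d w := by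
    have h : ⁅γ2, W⁆ = ⊥ := commutator_commutator_eq_bot_of_rotate
      (by rw [commutator_comm (⊤ : Subgroup G) W]; exact hWW) hWW
    exact fun d hd w hw => commutatorElement_eq_one_iff_commute.1
      (mem_bot.1 (h.le (commutator_mem_commutator hd hw)))
  have hx : ⁅r, (y : G)⁆ = (x : G) := by
    rw [commutatorElement_def, ← D.act, D.data.sy, Subgroup.coe_mul, mul_inv_cancel_right]
  have hxγ : (x : G) ∈ γ2 := hx ▸ commutator_mem_commutator (mem_top _) (mem_top _)
  set c := ⁅x, y⁆ with hc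
  have hcγ : (c : G) ∈ γ2 := by
    show E.subtype ⁅x, y⁆ ∈ γ2
    rw [map_commutatorElement]; exact commutator_mem_commutator (mem_top _) (mem_top _)
  have hc1 : c ∈ s1 p E := comm_mem_fr (mem_top _) (mem_top _)
  have cen : ∀ a ∈ s2 p E, ∀ g : E, Commute a g := fun a ha g => Subtype.ext (D.central hG h5 hr a ha g).eq
  have inE : ∀ a : E, (a : G) ∈ W → a ∈ s2 p E := by
    intro a ha
    have hcomm : ∀ d : E, (d : G) ∈ γ2 → Commute d a := fun d hd => Subtype.ext (hc2 _ hd _ ha).eq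
    obtain ⟨f, hf, i, j, rfl⟩ := D.data.exists_coord hP a
    let φ : E →* E :=
      { toFun := fun g => ⁅c, g⁆
        map_one' := commutatorElement_one_right c
        map_mul' := fun g g' => comm_mul_right_of (cen _ (comm_mem_dn hc1 _) g).symm }
    have h1 : φ (f * x ^ i * y ^ j) = 1 := commutatorElement_eq_one_iff_commute.2 (hcomm c hcγ)
    rw [map_mul, map_mul, map_zpow, map_zpow,
      show φ f = 1 from commutatorElement_eq_one_iff_commute.2 (D.c_comm hG h5 hr f hf).symm, one_mul] at h1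
    obtain ⟨hi, hj⟩ := D.cast_coe_eq hG h5 hr (i := i) (j := j) h1
    have hmem : f * x ^ i * y ^ j ∈ s1 p E := mul_mem (mul_mem hf
      (zpow_mem_congr (pow_mem_fr (mem_top x)) (i := 0) (by rw [hi, Int.cast_zero]) (by simp)))
      (zpow_mem_congr (pow_mem_fr (mem_top y)) (i := 0) (by rw [hj, Int.cast_zero]) (by simp))
    obtain ⟨w, hw, k, hk⟩ := D.data.exists_c hP h5 hmem
    rw [hk]
    refine mul_mem hw ?_
    have h2 : ⁅c ^ k, x⁆ = 1 := by
      have h3 := (hcomm x hxγ).symm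
      rw [hk] at h3
      refine commutatorElement_eq_one_iff_commute.2 ?_
      simpa using ((cen w hw x).inv_left).mul_left h3
    have h3 : ∀ k : ℤ, ⁅c ^ k, x⁆ = ⁅c, x⁆ ^ k := by
      have hmul : ∀ a b : ℤ, ⁅c ^ (a + b), x⁆ = ⁅c ^ a, x⁆ * ⁅c ^ b, x⁆ := fun a b => by
        rw [zpow_add, comm_mul_left_of (cen _ (comm_mem_dn (zpow_mem hc1 b) x) _).symm
          (cen _ (comm_mem_dn (zpow_mem hc1 b) x) _)]
      intro k
      induction k using Int.induction_on with
      | zero => simp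
      | succ n ih => rw [hmul, ih, zpow_one, zpow_add_one]
      | pred n ih =>
        have h := hmul (-(n : ℤ) - 1) 1
        rw [sub_add_cancel, ih, zpow_one] at h
        rw [zpow_sub_one ⁅c, x⁆, h, mul_inv_cancel_right]
    have hk0 := (D.cast_coe_eq hG h5 hr (i := k) (j := 0) (by rw [zpow_zero, mul_one, ← h3]; exact h2)).1
    exact zpow_mem_congr (pow_mem_dn hc1) (i := 0) (by rw [hk0, Int.cast_zero]) (by simp)
  have hWE : W ≤ E := by
    intro w hw
    obtain ⟨e, he, l, rfl⟩ := exists_of_mem_sup ((D.top_eq hG h5 hr).le (mem_top w))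
    suffices hl : (l : ZMod p) = 0 from mul_mem he (zpow_mem_congr (H := E) (by
      have := Subgroup.pow_index_mem E r; rwa [D.index] at this) (i := 0)
      (by rw [hl, Int.cast_zero]) (by simp))
    set g := e * r ^ l
    have hgy : ⁅g, (y : G)⁆ ∈ W := by
      rw [← commutatorElement_inv]
      exact inv_mem (commutator_le_right _ _ (commutator_mem_commutator (mem_top _) hw))
    have hgyE : ⁅g, (y : G)⁆ ∈ E := by
      rw [commutatorElement_def]
      exact mul_mem (Normal.conj_mem inferInstance _ y.2 g) (inv_mem y.2)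
    haveI hΦ : ((s1 p E).map E.subtype).Normal :=
      D.normal_map hG h5 hr fun α _ he => apply_mem_of_map (map_s1 α) he
    set π := QuotientGroup.mk' ((s1 p E).map E.subtype)
    have h0 : π ⁅g, (y : G)⁆ = 1 := mk'_eq_one.2
      ⟨⟨_, hgyE⟩, dn_le (inE ⟨_, hgyE⟩ hgy), rfl⟩
    have hEab : ∀ a b : E, Commute (π a) (π b) := fun a b => commute_mk'
      ⟨⁅a, b⁆, comm_mem_fr (mem_top _) (mem_top _), map_commutatorElement E.subtype a b⟩
    have hrx : Commute (π r) (π (x : G)) := by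
      refine commute_mk' (D.comm_r hG h5 hr (H := zpowers x) (fun a ha => ?_) (mem_zpowers x))
      obtain ⟨k, rfl⟩ := mem_zpowers_iff.1 ha
      rw [← mk'_eq_one, map_mul, map_inv, map_zpow σ, map_zpow, map_zpow,
        show QuotientGroup.mk' (s1 p E) (σ x) = QuotientGroup.mk' (s1 p E) x from
          (QuotientGroup.eq.2 D.data.sx).symm, inv_mul_cancel]
    have hry : π r * π (y : G) * (π r)⁻¹ = π (x : G) * π (y : G) := by
      rw [← map_inv, ← map_mul, ← map_mul, conj_eq_comm_mul, hx, map_mul]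
    have hxy : Commute (π (x : G)) (π (y : G)) := hEab x y
    have key : ∀ k : ℤ, π r ^ k * π (y : G) * (π r ^ k)⁻¹ = π (x : G) ^ k * π (y : G) := by
      intro k
      induction k using Int.induction_on with
      | zero => simp
      | succ k ih =>
        rw [zpow_add_one (π r), show π r ^ (k : ℤ) * π r * π (y : G) * (π r ^ (k : ℤ) * π r)⁻¹ =
          π r ^ (k : ℤ) * (π r * π (y : G) * (π r)⁻¹) * (π r ^ (k : ℤ))⁻¹ by group, hry,
          show π r ^ (k : ℤ) * (π (x : G) * π (y : G)) * (π r ^ (k : ℤ))⁻¹ =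
            π r ^ (k : ℤ) * π (x : G) * (π r ^ (k : ℤ))⁻¹ * (π r ^ (k : ℤ) * π (y : G) * (π r ^ (k : ℤ))⁻¹)
            by group, ih, (hrx.zpow_left _).eq, mul_inv_cancel_right, zpow_add_one, ← mul_assoc,
          (Commute.self_zpow (π (x : G)) _).eq]
      | pred k ih =>
        have hi : (π r)⁻¹ * π (y : G) * π r = (π (x : G))⁻¹ * π (y : G) := by
          calc (π r)⁻¹ * π (y : G) * π r
              = (π r)⁻¹ * (π (x : G))⁻¹ * (π (x : G) * π (y : G)) * π r := by group
            _ = (π r)⁻¹ * (π (x : G))⁻¹ * (π r * π (y : G) * (π r)⁻¹) * π r := by rw [hry]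
            _ = (π (x : G))⁻¹ * π (y : G) := by rw [hrx.inv_left.inv_right.eq]; group
        rw [zpow_sub_one (π r), show π r ^ (-(k : ℤ)) * (π r)⁻¹ * π (y : G) *
            (π r ^ (-(k : ℤ)) * (π r)⁻¹)⁻¹ =
          π r ^ (-(k : ℤ)) * ((π r)⁻¹ * π (y : G) * π r) * (π r ^ (-(k : ℤ)))⁻¹ by group, hi,
          show π r ^ (-(k : ℤ)) * ((π (x : G))⁻¹ * π (y : G)) * (π r ^ (-(k : ℤ)))⁻¹ =
            π r ^ (-(k : ℤ)) * (π (x : G))⁻¹ * (π r ^ (-(k : ℤ)))⁻¹ *
              (π r ^ (-(k : ℤ)) * π (y : G) * (π r ^ (-(k : ℤ)))⁻¹) by group, ih,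
          (hrx.inv_right.zpow_left _).eq, mul_inv_cancel_right, zpow_sub_one, ← mul_assoc,
          ((Commute.self_zpow (π (x : G)) _).inv_left).eq]
    have hl' : π (x : G) ^ l = 1 := by
      have h1 : π g * π (y : G) * (π g)⁻¹ = π (y : G) := by
        rw [map_commutatorElement, commutatorElement_eq_one_iff_commute] at h0
        rw [h0.eq, mul_inv_cancel_right]
      rw [map_mul, map_zpow, show π e * π r ^ l * π (y : G) * (π e * π r ^ l)⁻¹ =
        π e * (π r ^ l * π (y : G) * (π r ^ l)⁻¹) * (π e)⁻¹ by group, key, (Commute.mul_right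
          ((hEab ⟨e, he⟩ x).zpow_right l) (hEab ⟨e, he⟩ y)).eq, mul_inv_cancel_right] at h1
      exact mul_eq_right.1 h1
    rw [← map_zpow, mk'_eq_one] at hl'
    obtain ⟨a, ha, hax⟩ := hl'
    have hxl : x ^ l ∈ s1 p E := by
      rwa [show x ^ l = a from Subtype.ext (by rw [Subgroup.coe_zpow]; exact hax.symm)]
    exact (D.data.coord hP (i := l) (j := 0) (by rw [zpow_zero, mul_one]; exact hxl)).1
  refine Subgroup.eq_of_le_of_card_ge (fun w hw => ⟨⟨w, hWE hw⟩, inE ⟨w, hWE hw⟩ hw, rfl⟩) ?_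
  rw [hW, D.card_u hG h5 hr]

end GData

end Cfsg.Agent.Lib.RankThreePearl69
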